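import Cfsg.Agent.Mrg.Omega.NSix.JNotPlug
import Cfsg.Agent.ZN.ChoiceNse
import Cfsg.Agent.Mrg.Omega.NO3S.SN.Geo
import Cfsg.Agent.Mrg.Omega.NO3S.OneLine.Abs
import Cfsg.Agent.SporRec.MaxFix
import Cfsg.Agent.Mrg.Omega.NO3S.SN.R1.Def

section


/-!
# THEOREM SN, K-free part, case `J(S) ≰ O₂(P)`: LEMMA N (helper140, bb #16037 (2'')) and (N2) (helper581, #18311)

* `half` : a non-trivial 2-group of permutations of an odd set has a proper orbit `w` and a subset `h` of it which is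
  mapped to itself or to `w + h`;
* `lemN` **LEMMA N** : `V^g ≤ O₂(P) ≤ N_G(V^g)` implies `V^g = V`;
* `mem_of_Q_le` **(N2)** : `g ∈ C_G(z)` and `O₂(P) ≤ N_G(V^g)` imply `V^g = V`.
-/

set_option autoImplicit false

namespace Cfsg.Agent.Omega.NO3S.SN.J.N2

open Subgroup Cfsg Cfsg.Agent.PLocal.ThompsonJ Cfsg.Agent.ZN Cfsg.Agent.ZN.ChoiceBase
open Cfsg.Agent.ZN.ChoiceSit Cfsg.Agent.PLocal.ElemAbSup
open Cfsg.Agent.Omega.MinPar
open Cfsg.Agent.Omega.S5.Def Cfsg.Agent.Omega.S5.Syl Cfsg.Agent.Omega.S5.Pair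
open Cfsg.Agent.Omega.NSix.Base Cfsg.Agent.Omega.NSix.Basic
open Cfsg.Agent.Omega.NSix.CaseJ.Base Cfsg.Agent.Omega.NSix.CaseJ.Exact
open Cfsg.Agent.Omega.NSix.CaseJ.LemQ

universe u

/-! ### 2-groups of permutations -/

theorem exists_index_two {K : Type*} [Group K] [Finite K] (hK : IsPGroup 2 K) {H : Subgroup K} (hH : H ≠ ⊤) :
    ∃ M : Subgroup K, M.index = 2 ∧ H ≤ M := by
  have hf : Fact (Nat.Prime 2) := ⟨Nat.prime_two⟩
  obtain ⟨a, ha⟩ := IsPGroup.iff_card.1 hK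
  obtain ⟨b, hb⟩ := IsPGroup.iff_card.1 (hK.to_subgroup H)
  have hba : b < a := by
    by_contra hcon
    push Not at hcon
    apply hH
    apply Subgroup.eq_top_of_le_card
    rw [ha, hb]
    exact Nat.pow_le_pow_right (by norm_num) hcon
  obtain ⟨M, hM, hHM⟩ := Sylow.exists_subgroup_card_pow_prime_le 2 (m := a - 1)
    (by rw [ha]; exact pow_dvd_pow 2 (Nat.sub_le a 1)) H hb (by omega)
  refine ⟨M, ?_, hHM⟩
  have h1 := M.card_mul_index
  rw [hM, ha] at h1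
  have h2 : 2 ^ a = 2 ^ (a - 1) * 2 := by rw [← pow_succ]; congr 1; omega
  rw [h2] at h1
  exact Nat.eq_of_mul_eq_mul_left (by positivity) h1

theorem z011 : (0 : ZMod 2) = 1 + 1 := by decide

theorem z110 : (1 : ZMod 2) = 1 + 0 := by decide

theorem z000 : (0 : ZMod 2) = 0 + 0 := by decide

/-- Half of a proper orbit. -/
theorem half {K : Type*} [Group K] [Finite K] (hK : IsPGroup 2 K) {n : ℕ} (hn : Odd n)
    (f : K →* Equiv.Perm (Fin n)) (hf : ∃ k, f k ≠ 1) :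
    ∃ h w : Fin n → ZMod 2, w ≠ 0 ∧ w ≠ 1 ∧ (∀ k, w ∘ (f k).symm = w) ∧
      (∀ k, h ∘ (f k).symm = h ∨ h ∘ (f k).symm = w + h) ∧ ∃ k, h ∘ (f k).symm = w + h := by
  classical
  have hfact : Fact (Nat.Prime 2) := ⟨Nat.prime_two⟩
  obtain ⟨k₀, hk₀⟩ := hf
  obtain ⟨x, hx⟩ : ∃ x, f k₀ x ≠ x := by
    by_contra hcon
    push Not at hcon
    exact hk₀ (Equiv.ext hcon)
  let act : MulAction K (Fin n) := MulAction.compHom _ f
  have hsm : ∀ (k : K) (y : Fin n), k • y = f k y := fun _ _ => rfl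
  obtain ⟨y₀, hy₀⟩ := hK.nonempty_fixed_point_of_prime_not_dvd_card (Fin n) (by
    rw [Nat.card_eq_fintype_card, Fintype.card_fin]
    exact hn.not_two_dvd_nat)
  have hy₀' : ∀ k, f k y₀ = y₀ := fun k => hy₀ k
  set H : Subgroup K := MulAction.stabilizer K x with hH
  have hmH : ∀ k, k ∈ H ↔ f k x = x := fun k => MulAction.mem_stabilizer_iff
  have hHt : H ≠ ⊤ := fun h0 => hx ((hmH k₀).1 (h0 ▸ mem_top k₀))
  obtain ⟨M, hM, hHM⟩ := exists_index_two hK hHt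
  have hMn : M.Normal := Subgroup.normal_of_index_eq_two hM
  have hmul : ∀ a b : K, a * b ∈ M ↔ (a ∈ M ↔ b ∈ M) := fun a b => Subgroup.mul_mem_iff_of_index_two hM
  have hinv : ∀ a : K, a⁻¹ ∈ M ↔ a ∈ M := fun a => inv_mem_iff
  obtain ⟨q, hq⟩ : ∃ q, q ∉ M := by
    by_contra hcon
    push Not at hcon
    have h1 : M = ⊤ := eq_top_iff.2 fun x _ => hcon x
    rw [h1, index_top] at hM
    exact absurd hM (by norm_num)
  have fm : ∀ a b y, f (a * b) y = f a (f b y) := fun a b y => by rw [map_mul]; rfl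
  have fi : ∀ a y, (f a).symm y = f a⁻¹ y := fun a y => by rw [map_inv]; rfl
  -- the class of `k` modulo `M` depends only on `f k x`
  have key : ∀ a b, f a x = f b x → (a ∈ M ↔ b ∈ M) := by
    intro a b hab
    have h1 : b⁻¹ * a ∈ H := by
      rw [hmH, fm, hab, ← fm, inv_mul_cancel, map_one]; rfl
    have h2 := (hmul b⁻¹ a).1 (hHM h1)
    rw [hinv] at h2
    exact h2.symm
  let h : Fin n → ZMod 2 := fun y => if ∃ k ∈ M, f k x = y then 1 else 0
  let w : Fin n → ZMod 2 := fun y => if ∃ k, f k x = y then 1 else 0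
  have hh1 : ∀ k, k ∈ M → h (f k x) = 1 := fun k hk => if_pos ⟨k, hk, rfl⟩
  have hh0 : ∀ k, k ∉ M → h (f k x) = 0 := fun k hk => if_neg fun ⟨k', hk', h1⟩ => hk ((key _ _ h1).1 hk')
  have hw1 : ∀ k, w (f k x) = 1 := fun k => if_pos ⟨k, rfl⟩
  have hno : ∀ y, (¬ ∃ k, f k x = y) → h y = 0 ∧ w y = 0 := fun y hy =>
    ⟨if_neg fun ⟨k, _, h1⟩ => hy ⟨k, h1⟩, if_neg hy⟩
  have hnoi : ∀ k y, (¬ ∃ k, f k x = y) → ¬ ∃ k', f k' x = f k⁻¹ y := by
    rintro k y hy ⟨k', h1⟩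
    refine hy ⟨k * k', ?_⟩
    rw [fm, h1, ← fm, mul_inv_cancel, map_one]; rfl
  have hact : ∀ k, (k ∈ M → h ∘ (f k).symm = h) ∧ (k ∉ M → h ∘ (f k).symm = w + h) := by
    intro k
    constructor
    · intro hk
      funext y
      rw [Function.comp_apply, fi]
      by_cases hy : ∃ k', f k' x = y
      · obtain ⟨k', rfl⟩ := hy
        rw [← fm]
        have h2 := hmul k⁻¹ k'
        rw [hinv] at h2
        by_cases hk' : k' ∈ M
        · rw [hh1 _ (h2.2 ⟨fun _ => hk', fun _ => hk⟩), hh1 _ hk']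
        · rw [hh0 _ (fun h3 => hk' ((h2.1 h3).1 hk)), hh0 _ hk']
      · rw [(hno y hy).1, (hno _ (hnoi k y hy)).1]
    · intro hk
      funext y
      rw [Function.comp_apply, fi, Pi.add_apply]
      by_cases hy : ∃ k', f k' x = y
      · obtain ⟨k', rfl⟩ := hy
        rw [← fm, hw1]
        have h2 := hmul k⁻¹ k'
        rw [hinv] at h2
        by_cases hk' : k' ∈ M
        · rw [hh0 _ (fun h3 => hk ((h2.1 h3).2 hk')), hh1 _ hk']
          exact z011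
        · rw [hh1 _ (h2.2 ⟨fun h3 => absurd h3 hk, fun h3 => absurd h3 hk'⟩), hh0 _ hk']
          exact z110
      · rw [(hno y hy).1, (hno y hy).2, (hno _ (hnoi k y hy)).1]
        exact z000
  refine ⟨h, w, ?_, ?_, ?_, ?_, q, (hact q).2 hq⟩
  · intro h0
    have h1 := hw1 1
    rw [h0, Pi.zero_apply] at h1
    exact zero_ne_one h1
  · intro h0
    have h1 : w y₀ = 1 := by rw [h0]; rfl
    by_cases hy : ∃ k, f k x = y₀
    · obtain ⟨k, hk⟩ := hy
      apply hx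
      have h2 : x = y₀ := by
        rw [← hy₀' k⁻¹, ← hk, ← fm, inv_mul_cancel, map_one]; rfl
      rw [h2, hy₀']
    · rw [(hno _ hy).2] at h1
      exact zero_ne_one h1
  · intro k
    funext y
    rw [Function.comp_apply, fi]
    by_cases hy : ∃ k', f k' x = y
    · obtain ⟨k', rfl⟩ := hy
      rw [← fm, hw1, hw1]
    · rw [(hno y hy).2, (hno _ (hnoi k y hy)).2]
  · intro k
    by_cases hk : k ∈ M
    · exact Or.inl ((hact k).1 hk)
    · exact Or.inr ((hact k).2 hk)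

variable {G : Type u} [Group G] [Finite G] {S : Sylow 2 G} {P : Subgroup G} {m : ℕ}
  {ε : (Fin (2 ^ m + 1) → ZMod 2) → G}

/-- **LEMMA N.** -/
theorem lemN (h : NSix.CaseJ.Base.Hyp S P ε) {g : G} (h1 : cj g (zl (S : Subgroup G) P) ≤ o2 P)
    (h2 : o2 P ≤ normalizer ((cj g (zl (S : Subgroup G) P) : Subgroup G) : Set G)) :
    g ∈ normalizer (zl (S : Subgroup G) P : Set G) := by
  obtain ⟨V, hV⟩ : ∃ V, V = zl (S : Subgroup G) P := ⟨_, rfl⟩
  have hM := NSix.Norm.evenSet' h.hm S h.ev h.SP h.fix0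
  have hn : ∀ q ∈ o2 P, g⁻¹ * q * g ∈ normalizer (zl (S : Subgroup G) P : Set G) := by
    intro q hq
    refine mem_normalizer_of_cj_le ?_
    rintro _ ⟨v, hv, rfl⟩
    change g⁻¹ * q * g * v * (g⁻¹ * q * g)⁻¹ ∈ _
    have h3 : g * v * g⁻¹ ∈ cj g (zl (S : Subgroup G) P) := ⟨v, hv, rfl⟩
    have h4 := (mem_normalizer_iff.1 (h2 hq) _).1 h3
    rw [mem_cj] at h4
    have e : g⁻¹ * (q * (g * v * g⁻¹) * q⁻¹) * g = g⁻¹ * q * g * v * (g⁻¹ * q * g)⁻¹ := by group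
    rwa [e] at h4
  let c : o2 P →* normalizer (zl (S : Subgroup G) P : Set G) :=
    { toFun := fun q => ⟨g⁻¹ * q * g, hn q q.2⟩
      map_one' := Subtype.ext (by change g⁻¹ * 1 * g = 1; group)
      map_mul' := fun a b => Subtype.ext (by
        change g⁻¹ * (a * b) * g = g⁻¹ * a * g * (g⁻¹ * b * g); group) }
  let f : o2 P →* Equiv.Perm (Fin (2 ^ m + 1)) := (hM.hom h.three).comp c
  have hact : ∀ (q : o2 P) x, (q : G) * (g * ε x * g⁻¹) * (q : G)⁻¹ = g * ε (x ∘ (f q).symm) * g⁻¹ := by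
    intro q x
    have h3 := hM.acts_hom h.three (c q) x
    change g⁻¹ * q * g * ε x * (g⁻¹ * q * g)⁻¹ = ε (x ∘ (f q).symm) at h3
    rw [← h3]; group
  have hmemQ : ∀ x, g * ε x * g⁻¹ ∈ o2 P := fun x => h1 ⟨ε x, h.ev.mem x, rfl⟩
  have hsq : ∀ x, (g * ε x * g⁻¹) * (g * ε x * g⁻¹) = 1 := fun x => by
    calc (g * ε x * g⁻¹) * (g * ε x * g⁻¹) = g * (ε x * ε x) * g⁻¹ := by group
      _ = 1 := by rw [h.ev.sq]; group
  -- vectors fixed by `Q` are in `V`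
  have hfixed : ∀ x, (∀ q : o2 P, x ∘ (f q).symm = x) → g * ε x * g⁻¹ ∈ zl (S : Subgroup G) P := by
    intro x hx
    refine oz h (hmemQ x) (hsq x) fun q hq => ?_
    have h3 := hact ⟨q, hq⟩ x
    rw [hx] at h3
    exact mul_inv_eq_iff_eq_mul.1 h3
  by_cases hf : ∃ q, f q ≠ 1
  · exfalso
    obtain ⟨u, w, hw0, hw1, hw, hu, q, hq⟩ := half (Cfsg.Agent.MinSimple.VModule.o2_isPGroup P) (by
      exact Even.add_one (Nat.even_pow.mpr ⟨even_two, by have := h.hm; omega⟩)) f hf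
    have hwV := hfixed w hw
    have hwne : g * ε w * g⁻¹ ≠ 1 := by
      intro h0
      have h3 : ε w = 1 := conj_eq_one_iff.1 h0
      rcases (h.ev.ker w).1 h3 with h4 | h4
      · exact hw0 h4
      · exact hw1 h4
    have hadd : ∀ x y, g * ε (x + y) * g⁻¹ = (g * ε x * g⁻¹) * (g * ε y * g⁻¹) := fun x y => by
      rw [h.ev.add]; group
    have huV : g * ε u * g⁻¹ ∈ zl (S : Subgroup G) P := by
      refine mem h (hmemQ u) (hsq u) hwV hwne fun q hq => ?_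
      rcases hu ⟨q, hq⟩ with h3 | h3
      · left
        have h4 := hact ⟨q, hq⟩ u
        rwa [h3] at h4
      · right
        have h4 := hact ⟨q, hq⟩ u
        rw [h3, hadd] at h4
        exact h4
    have h4 := hact q u
    rw [hq, hadd] at h4
    have h5 : (q : G) * (g * ε u * g⁻¹) * (q : G)⁻¹ = g * ε u * g⁻¹ := by
      rw [h.VcQ q.2 huV]; group
    rw [h5] at h4
    exact hwne (mul_eq_right.1 h4.symm)
  · push Not at hf
    refine mem_normalizer_of_cj_le ?_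
    rintro _ ⟨v, hv, rfl⟩
    obtain ⟨x, rfl⟩ := h.ev.surj v hv
    exact hfixed x fun q => by rw [hf q]; rfl

/-- The conjugates of `V` under `C_G(z)` lie in `O₂(P)`. -/
theorem cj_le_Q (h : NSix.CaseJ.Base.Hyp S P ε) (hN : SN.Hyp S P m ε) {g : G}
    (hg : g ∈ centralizer ({ε (Pi.single 0 1)} : Set G)) : cj g (zl (S : Subgroup G) P) ≤ o2 P := by
  have h1 := hN.V_le
  set C := centralizer ({ε (Pi.single 0 1)} : Set G) with hC
  have h2 : cj g (zl (S : Subgroup G) P) ≤ zc (o2 C) := by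
    rintro _ ⟨v, hv, rfl⟩
    have h3 := MinSimple.VModule.mem_zc.1 (h1 hv)
    have hn := MinSimple.VModule.le_normalizer_o2 C hg
    refine MinSimple.VModule.mem_zc.2 ⟨(mem_normalizer_iff.1 hn v).1 h3.1, fun x hx => ?_, ?_⟩
    · have h4 : g⁻¹ * x * g ∈ o2 C := by
        have := (mem_normalizer_iff.1 (inv_mem hn) x).1 hx
        rwa [inv_inv] at this
      have h5 := h3.2.1 _ h4
      change x * (g * v * g⁻¹) = g * v * g⁻¹ * x
      calc x * (g * v * g⁻¹) = g * ((g⁻¹ * x * g) * v) * g⁻¹ := by group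
        _ = g * (v * (g⁻¹ * x * g)) * g⁻¹ := by rw [h5]
        _ = g * v * g⁻¹ * x := by group
    · change (g * v * g⁻¹) ^ 2 = 1
      calc (g * v * g⁻¹) ^ 2 = g * v ^ 2 * g⁻¹ := by rw [pow_two, pow_two]; group
        _ = 1 := by rw [h3.2.2]; group
  intro x hx
  have h3 := MinSimple.VModule.mem_zc.1 (h2 hx)
  exact h.cS (hN.o2_le_S h3.1) fun v hv => (h3.2.1 v (MinSimple.VModule.mem_zc.1 (h1 hv)).1).symm

/-- **(N2)** a conjugate of `O₂(P)` under `C_G(z)` lies in the normaliser of exactly one of the conjugates of `V`. -/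
theorem mem_of_Q_le (h : NSix.CaseJ.Base.Hyp S P ε) (hN : SN.Hyp S P m ε) {g : G}
    (hg : g ∈ centralizer ({ε (Pi.single 0 1)} : Set G))
    (h2 : o2 P ≤ normalizer ((cj g (zl (S : Subgroup G) P) : Subgroup G) : Set G)) :
    g ∈ normalizer (zl (S : Subgroup G) P : Set G) := lemN h (cj_le_Q h hN hg) h2

end Cfsg.Agent.Omega.NO3S.SN.J.N2

end

section


/-!
# THEOREM SN, K-free part, case `J(S) ≰ O₂(P)`: (N2+)

`J₀ = J(O₂(P))`, `z` the point `z_0`.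

* `ex_comm` : `u` with `[u, J₀] = ⟨x⟩`: every exact offender of `C_P(z)` centralises `x`;
* `mem_of_jjQ` **(N2+)** : `g ∈ C_G(z)`, `J₀ ≤ N_G(V^g)` imply `V^g = V`;
* `two_le` : the 2-subgroups of `C_G(z)` over `J₀` normalise `V`.
-/

set_option autoImplicit false
set_option linter.unusedSectionVars false

namespace Cfsg.Agent.Omega.NO3S.SN.TwoP

open Subgroup Cfsg Cfsg.Agent.PLocal.ThompsonJ Cfsg.Agent.ZN Cfsg.Agent.ZN.ChoiceBase
open Cfsg.Agent.ZN.ChoiceSit Cfsg.Agent.PLocal.ElemAbSup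
open Cfsg.Agent.Omega.MinPar
open Cfsg.Agent.Omega.S5.Def Cfsg.Agent.Omega.S5.Syl Cfsg.Agent.Omega.S5.Pair
open Cfsg.Agent.Omega.NSix.Base Cfsg.Agent.Omega.NSix.Basic
open Cfsg.Agent.Omega.SQ1.Bau (mem_AA_of_comm elem_comm elem_sq mem_sup_comm card_sup_comm)
open Cfsg.Agent.Omega.NSix.CaseJ.Base Cfsg.Agent.Omega.NSix.CaseJ.Exact
open Cfsg.Agent.Omega.NSix.CaseJ.LemQ

universe u

variable {G : Type u} [Group G] [Finite G] {S : Sylow 2 G} {P : Subgroup G} {m : ℕ}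
  {ε : (Fin (2 ^ m + 1) → ZMod 2) → G}

/-! ### The members of `A(O₂(P))` -/

theorem zero_ne_last (m : ℕ) : (0 : Fin (2 ^ m + 1)) ≠ Fin.last (2 ^ m) := by
  intro h0
  have h1 : (0 : ℕ) = 2 ^ m := congrArg Fin.val h0
  have h2 : 0 < 2 ^ m := by positivity
  omega

/-- The members of `A(O₂(P))` have maximal order in `G`. -/
theorem card_le_AA (h : NSix.CaseJ.Base.Hyp S P ε) {A : Subgroup G} (hA : A ∈ AA (o2 P)) {B : Subgroup G}
    (hB : IsElementaryAbelian 2 B) : Nat.card B ≤ Nat.card A := by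
  obtain ⟨A', hA'⟩ := exists_ex h (zero_ne_last m)
  rw [← mm_eq hA, (hA'.A0_le h (zero_ne_last m)).2]
  exact hA'.card B hB

/-- Elementary abelian subgroups of maximal order of `N_G(V)` act by disjoint transpositions. -/
theorem side_norm (h : NSix.CaseJ.Base.Hyp S P ε) {B : Subgroup G} (hB : IsElementaryAbelian 2 B)
    (hmax : ∀ C : Subgroup G, IsElementaryAbelian 2 C → Nat.card C ≤ Nat.card B)
    (hBM : B ≤ normalizer (zl (S : Subgroup G) P : Set G)) : Side B ε := by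
  obtain ⟨k, hk, hkS⟩ := NSix.CaseJ.Fus.conj_S h (isPGroup_of_isElementaryAbelian hB) hBM
  have hAA : cj k B ∈ AA (S : Subgroup G) :=
    ⟨isElementaryAbelian_cj k hB, hkS, fun C hC _ => by rw [card_cj]; exact hmax C hC⟩
  have hs := h.side hAA
  obtain ⟨σ, hσ⟩ := (NSix.Norm.evenSet' h.hm S h.ev h.SP h.fix0).perm k hk
  intro b hb
  obtain ⟨τ, h1, h2⟩ := hs (k * b * k⁻¹) ⟨b, hb, rfl⟩
  have e1 : k⁻¹ * (k * b * k⁻¹) * k⁻¹⁻¹ = b := by group
  refine ⟨σ⁻¹ * τ * σ⁻¹⁻¹, ?_, fun i hi => ?_⟩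
  · have h3 := hσ.inv.conj h1
    rwa [e1] at h3
  · rw [inv_inv] at hi ⊢
    have hi' : τ (σ i) ≠ σ i := by
      intro h0
      apply hi
      rw [Equiv.Perm.mul_apply, Equiv.Perm.mul_apply, h0]
      exact σ.symm_apply_apply i
    obtain ⟨h3, c, hc, hc'⟩ := h2 _ hi'
    refine ⟨?_, k⁻¹ * c * k⁻¹⁻¹, ?_, ?_⟩
    · rw [Equiv.Perm.mul_apply, Equiv.Perm.mul_apply, Equiv.Perm.mul_apply, Equiv.Perm.mul_apply]
      have e3 : σ (σ⁻¹ (τ (σ i))) = τ (σ i) := σ.apply_symm_apply _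
      rw [e3, h3]
      exact σ.symm_apply_apply i
    · rw [mem_cj] at hc
      rwa [inv_inv]
    · have h4 := hσ.inv.conj hc'
      rw [← Equiv.swap_apply_apply] at h4
      have e2 : σ⁻¹ (σ i) = i := σ.symm_apply_apply i
      rw [e2] at h4
      exact h4

/-- `O₂(P)` is a Sylow 2-subgroup of `C_G(V)`. -/
theorem sylQ (h : NSix.CaseJ.Base.Hyp S P ε) : Syl (o2 P) (centralizer (zl (S : Subgroup G) P : Set G)) := by
  refine ⟨fun q hq => mem_centralizer_iff.2 fun v hv => (h.VcQ hq hv).symm, ?_, fun R hR hR2 hQR => ?_⟩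
  · exact MinSimple.VModule.o2_isPGroup P
  · have hRM : R ≤ normalizer (zl (S : Subgroup G) P : Set G) := hR.trans (centralizer_le_normalizer _)
    obtain ⟨k, hk, hkS⟩ := NSix.CaseJ.Fus.conj_S h hR2 hRM
    have h1 : cj k R ≤ o2 P := by
      intro x hx
      refine h.cS (hkS hx) fun v hv => ?_
      have h2 : cj k R ≤ centralizer (zl (S : Subgroup G) P : Set G) := by
        have h3 := cj_mono k hR
        rwa [cj_centralizer, cj_eq_of_mem_normalizer hk] at h3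
      exact (mem_centralizer_iff.1 (h2 hx) v hv).symm
    refine (Subgroup.eq_of_le_of_card_ge hQR ?_).symm
    rw [← card_cj k R]
    exact Subgroup.card_le_of_le h1

/-- Two elements outside a subgroup of index at most two. -/
theorem two_cosets {C X : Subgroup G} (hCX : C ≤ X) (hc : Nat.card X ≤ 2 * Nat.card C) {u v : G}
    (hu : u ∈ X) (huC : u ∉ C) (hv : v ∈ X) (hvC : v ∉ C) : u⁻¹ * v ∈ C := by
  by_contra hcon
  have hCp : 0 < Nat.card C := Nat.card_pos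
  -- three disjoint cosets
  have h1 : Nat.card (C ⊕ (C ⊕ C)) ≤ Nat.card X := by
    refine Nat.card_le_card_of_injective (fun p : C ⊕ (C ⊕ C) => match p with
      | Sum.inl c => (⟨c, hCX c.2⟩ : X)
      | Sum.inr (Sum.inl c) => ⟨u * c, mul_mem hu (hCX c.2)⟩
      | Sum.inr (Sum.inr c) => ⟨v * c, mul_mem hv (hCX c.2)⟩) ?_
    rintro (⟨c, hc⟩ | ⟨c, hc⟩ | ⟨c, hc⟩) (⟨d, hd⟩ | ⟨d, hd⟩ | ⟨d, hd⟩) hcd
    · have h2 : c = d := congrArg Subtype.val hcd
      subst h2; rfl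
    · have h2 : c = u * d := congrArg Subtype.val hcd
      exact absurd (by rw [eq_mul_inv_of_mul_eq h2.symm]; exact mul_mem hc (inv_mem hd)) huC
    · have h2 : c = v * d := congrArg Subtype.val hcd
      exact absurd (by rw [eq_mul_inv_of_mul_eq h2.symm]; exact mul_mem hc (inv_mem hd)) hvC
    · have h2 : u * c = d := congrArg Subtype.val hcd
      exact absurd (by rw [eq_mul_inv_of_mul_eq h2]; exact mul_mem hd (inv_mem hc)) huC
    · have h2 : u * c = u * d := congrArg Subtype.val hcd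
      have h3 := mul_left_cancel h2
      subst h3; rfl
    · have h2 : u * c = v * d := congrArg Subtype.val hcd
      refine absurd ?_ hcon
      have h3 : u⁻¹ * v = c * d⁻¹ := by
        calc u⁻¹ * v = u⁻¹ * (v * d) * d⁻¹ := by group
          _ = c * d⁻¹ := by rw [← h2]; group
      rw [h3]; exact mul_mem hc (inv_mem hd)
    · have h2 : v * c = d := congrArg Subtype.val hcd
      exact absurd (by rw [eq_mul_inv_of_mul_eq h2]; exact mul_mem hd (inv_mem hc)) hvC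
    · have h2 : v * c = u * d := congrArg Subtype.val hcd
      refine absurd ?_ hcon
      have h3 : u⁻¹ * v = d * c⁻¹ := by
        calc u⁻¹ * v = u⁻¹ * (v * c) * c⁻¹ := by group
          _ = d * c⁻¹ := by rw [h2]; group
      rw [h3]; exact mul_mem hd (inv_mem hc)
    · have h2 : v * c = v * d := congrArg Subtype.val hcd
      have h3 := mul_left_cancel h2
      subst h3; rfl
  rw [Nat.card_sum, Nat.card_sum] at h1
  omega


/-! ### `C_G(z)` and `W = Ω₁(Z(O₂(C_G(z))))` -/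

/-- `W = Ω₁(Z(O₂(C_G(z))))`. -/
abbrev WW (ε : (Fin (2 ^ m + 1) → ZMod 2) → G) : Subgroup G :=
  zc (o2 (centralizer ({zz ε 0} : Set G)))

theorem WW_conj {g w : G} (hg : g ∈ centralizer ({zz ε 0} : Set G)) (hw : w ∈ WW ε) : g * w * g⁻¹ ∈ WW ε := by
  have h3 := MinSimple.VModule.mem_zc.1 hw
  have hn := MinSimple.VModule.le_normalizer_o2 (centralizer ({zz ε 0} : Set G)) hg
  refine MinSimple.VModule.mem_zc.2 ⟨(mem_normalizer_iff.1 hn w).1 h3.1, fun x hx => ?_, ?_⟩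
  · have h4 : g⁻¹ * x * g ∈ o2 (centralizer ({zz ε 0} : Set G)) := by
      have := (mem_normalizer_iff.1 (inv_mem hn) x).1 hx
      rwa [inv_inv] at this
    have h5 := h3.2.1 _ h4
    calc x * (g * w * g⁻¹) = g * ((g⁻¹ * x * g) * w) * g⁻¹ := by group
      _ = g * (w * (g⁻¹ * x * g)) * g⁻¹ := by rw [h5]
      _ = g * w * g⁻¹ * x := by group
  · calc (g * w * g⁻¹) ^ 2 = g * w ^ 2 * g⁻¹ := by rw [pow_two, pow_two]; group
      _ = 1 := by rw [h3.2.2]; group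

theorem WW_comm {x y : G} (hx : x ∈ WW ε) (hy : y ∈ WW ε) : x * y = y * x :=
  (MinSimple.VModule.mem_zc.1 hy).2.1 x (MinSimple.VModule.mem_zc.1 hx).1

theorem WW_sq {x : G} (hx : x ∈ WW ε) : x * x = 1 := by
  have := (MinSimple.VModule.mem_zc.1 hx).2.2
  rwa [pow_two] at this

theorem WW_elem : IsElementaryAbelian 2 (WW ε) := isElementaryAbelian_iff.2
  ⟨fun _ hx _ hy => WW_comm hx hy, fun _ hx => (MinSimple.VModule.mem_zc.1 hx).2.2⟩

theorem V_le_WW (hN : SN.Hyp S P m ε) : zl (S : Subgroup G) P ≤ WW ε := hN.V_le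

theorem WW_le_Q (h : NSix.CaseJ.Base.Hyp S P ε) (hN : SN.Hyp S P m ε) : WW ε ≤ o2 P := by
  intro x hx
  have h1 := V_le_WW hN
  have h3 := MinSimple.VModule.mem_zc.1 hx
  exact h.cS (hN.o2_le_S h3.1) fun v hv => (h3.2.1 v (MinSimple.VModule.mem_zc.1 (h1 hv)).1).symm

theorem Q_le_cz (h : NSix.CaseJ.Base.Hyp S P ε) : o2 P ≤ centralizer ({zz ε 0} : Set G) := fun _ hq =>
  mem_centralizer_singleton_iff.2 (h.VcQ hq (zz_mem h.ev 0))

/-- Elements acting as a permutation which fixes the letter `0` centralise `z`. -/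
theorem cz_of_acts {g : G} {σ : Equiv.Perm (Fin (2 ^ m + 1))} (hσ : Acts ε g σ) (h0 : σ 0 = 0) :
    g ∈ centralizer ({zz ε 0} : Set G) := by
  have h1 := zz_conj hσ 0
  rw [h0] at h1
  exact mem_centralizer_singleton_iff.2 (comm_of_conj h1)

/-- `P` normalises `J(O₂(P))`. -/
theorem jjQ_conj {g q : G} (hg : g ∈ P) (hq : q ∈ jj (o2 P)) : g * q * g⁻¹ ∈ jj (o2 P) :=
  (mem_normalizer_iff.1 ((MinSimple.VModule.le_normalizer_o2 P).trans
    (normalizer_le_of_cj (F := jj) jj_cj (o2 P)) hg) q).1 hq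

/-- **The exact offenders in `C_P(z)` centralise `x`**, if `[u, J(Q)] = ⟨x⟩`. -/
theorem ex_comm (h : NSix.CaseJ.Base.Hyp S P ε) (hN : SN.Hyp S P m ε) {u x : G} (hu : u ∈ WW ε) (hxW : x ∈ WW ε)
    (hx : x ∈ zj (o2 P)) (hc : ∀ q ∈ jj (o2 P), q * u * q⁻¹ = u ∨ q * u * q⁻¹ = x * u)
    (he : ∃ q ∈ jj (o2 P), q * u * q⁻¹ ≠ u) {i j : Fin (2 ^ m + 1)} (hi : i ≠ 0) (hj : j ≠ 0) (hij : i ≠ j)
    {A : Subgroup G} (hA : Ex P ε i j A) {c : G} (hcA : c ∈ A) : c * x * c⁻¹ = x := by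
  obtain ⟨V, hV⟩ : ∃ V, V = zl (S : Subgroup G) P := ⟨_, rfl⟩
  have hVe : IsElementaryAbelian 2 V := hV ▸ V_elem h
  have hVW : V ≤ WW ε := hV ▸ V_le_WW hN
  have hA0 := (hA.A0_le h hij).1
  have hxJ := ChoiceBase.mem_zj.1 hx
  obtain ⟨q₀, hq₀, hq₀u⟩ := he
  have hq₀x := (hc q₀ hq₀).resolve_left hq₀u
  have hx1 : x ≠ 1 := fun e => hq₀u (by rw [hq₀x, e, one_mul])
  rcases hA.act c hcA with hc1 | hc1
  · -- `c ∈ A₀`
    have h1 : c ∈ A ⊓ centralizer (zl (S : Subgroup G) P : Set G) := (hA.mem_A0 h).2 ⟨hcA, hc1⟩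
    rw [hxJ.2.2 c (hA0 h1), mul_inv_cancel_right]
  have hcz : c ∈ centralizer ({zz ε 0} : Set G) := cz_of_acts hc1 (Equiv.swap_apply_of_ne_of_ne hi.symm hj.symm)
  have hcP := hA.AP hcA
  obtain ⟨u', hu'⟩ : ∃ u', u' = c * u * c⁻¹ := ⟨_, rfl⟩
  obtain ⟨x', hx'⟩ : ∃ x', x' = c * x * c⁻¹ := ⟨_, rfl⟩
  rw [← hx']
  have hu'W : u' ∈ WW ε := hu' ▸ WW_conj hcz hu
  have hx'W : x' ∈ WW ε := hx' ▸ WW_conj hcz hxW
  have hx'1 : x' ≠ 1 := fun e => hx1 (conj_eq_one_iff.1 (hx' ▸ e))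
  by_cases hcase : ∀ b ∈ A ⊓ centralizer (zl (S : Subgroup G) P : Set G), b * u * b⁻¹ = u
  · -- `A₀` centralises `u`
    have hbu' : ∀ b ∈ A ⊓ centralizer (zl (S : Subgroup G) P : Set G), b * u' * b⁻¹ = u' := by
      intro b hb
      have e : b * c = c * b := elem_comm hA.elem b hb.1 c hcA
      calc b * u' * b⁻¹ = (b * c) * u * (b * c)⁻¹ := by rw [hu']; group
        _ = c * (b * u * b⁻¹) * c⁻¹ := by rw [e]; group
        _ = u' := by rw [hcase b hb, hu']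
    set X := V ⊔ closure {u, u'} with hX
    have hXW : X ≤ WW ε := sup_le hVW (by
      rw [closure_le]
      rintro y (rfl | rfl)
      · exact hu
      · exact hu'W)
    have hXe : IsElementaryAbelian 2 X := isElementaryAbelian_mono WW_elem hXW
    have hXc : ∀ b ∈ A ⊓ centralizer (zl (S : Subgroup G) P : Set G), ∀ y ∈ X, b * y = y * b := by
      intro b hb
      have h1 : X ≤ centralizer ({b} : Set G) := by
        refine sup_le (fun v hv => ?_) ?_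
        · rw [mem_centralizer_singleton_iff]
          exact mem_centralizer_iff.1 hb.2 v (hV ▸ hv)
        · rw [closure_le]
          rintro y (rfl | rfl)
          · exact mem_centralizer_singleton_iff.2 (comm_of_conj (hcase b hb)).symm
          · exact mem_centralizer_singleton_iff.2 (comm_of_conj (hbu' b hb)).symm
      exact fun y hy => (mem_centralizer_singleton_iff.1 (h1 hy)).symm
    have h1 := hA.transv h hij hXe (hV ▸ le_sup_left) hXc hcA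
      (mem_sup_right (subset_closure (Set.mem_insert u {u'})))
    rw [← hu'] at h1
    obtain ⟨r, hr, hru⟩ : ∃ r ∈ V, u' = u * r := by
      rcases h1 with h1 | h1
      · exact ⟨1, one_mem _, by rw [mul_one]; exact h1⟩
      · exact ⟨rr ε i j, hV ▸ rr_mem h.ev i j, h1⟩
    have hq' := jjQ_conj hcP hq₀
    have e1 : (c * q₀ * c⁻¹) * u' * (c * q₀ * c⁻¹)⁻¹ = x' * u' := by
      calc (c * q₀ * c⁻¹) * u' * (c * q₀ * c⁻¹)⁻¹ = c * (q₀ * u * q₀⁻¹) * c⁻¹ := by rw [hu']; group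
        _ = x' * u' := by rw [hq₀x, hx', hu']; group
    have e2 : (c * q₀ * c⁻¹) * r = r * (c * q₀ * c⁻¹) := h.VcQ (ChoiceBase.jj_le _ hq') (hV ▸ hr)
    have e3 : (c * q₀ * c⁻¹) * u' * (c * q₀ * c⁻¹)⁻¹ = ((c * q₀ * c⁻¹) * u * (c * q₀ * c⁻¹)⁻¹) * r := by
      calc (c * q₀ * c⁻¹) * u' * (c * q₀ * c⁻¹)⁻¹ = (c * q₀ * c⁻¹) * u * r * (c * q₀ * c⁻¹)⁻¹ := by
            rw [hru]; group
        _ = (c * q₀ * c⁻¹) * u * ((c * q₀ * c⁻¹)⁻¹ * ((c * q₀ * c⁻¹) * r)) * (c * q₀ * c⁻¹)⁻¹ := by group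
        _ = _ := by rw [e2]; group
    rw [e1, hru, ← mul_assoc] at e3
    have e4 := mul_right_cancel e3
    rcases hc _ hq' with h2 | h2
    · rw [h2] at e4
      exact absurd (mul_eq_right.1 e4) hx'1
    · rw [h2] at e4
      exact mul_right_cancel e4
  · -- `b ∈ A₀` moves `u`
    push Not at hcase
    obtain ⟨b, hb, hbu⟩ := hcase
    have hbx := (hc b (hA0 hb)).resolve_left hbu
    have hbc : b * c = c * b := elem_comm hA.elem b hb.1 c hcA
    have hbu' : b * u' * b⁻¹ = x' * u' := by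
      calc b * u' * b⁻¹ = (b * c) * u * (b * c)⁻¹ := by rw [hu']; group
        _ = c * (b * u * b⁻¹) * c⁻¹ := by rw [hbc]; group
        _ = x' * u' := by rw [hbx, hx', hu']; group
    -- `E = A₀ V`
    set A0 := A ⊓ centralizer (zl (S : Subgroup G) P : Set G) with hA0d
    have hcm : ∀ a ∈ A0, ∀ v ∈ V, a * v = v * a := fun a ha v hv =>
      (mem_centralizer_iff.1 ha.2 v (hV ▸ hv)).symm
    have hEe := sup_elem (isElementaryAbelian_mono hA.elem inf_le_left) hVe hcm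
    have hEmax : ∀ B : Subgroup G, IsElementaryAbelian 2 B → Nat.card B ≤ Nat.card ↥(A0 ⊔ V : Subgroup G) := by
      intro B hB
      refine (hA.card B hB).trans ?_
      have h1 := card_sup_comm hcm
      have h2 : 2 * Nat.card ↥(A0 ⊓ V) ≤ Nat.card V := by
        refine two_mul_card_le inf_le_right fun hle => ?_
        have h3 := (hle (show zz ε i ∈ V from hV ▸ zz_mem h.ev i)).1.1
        have h4 := (h.ev.fixes_iff h.three hc1 i).1 (elem_comm hA.elem c hcA _ h3)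
        rw [Equiv.swap_apply_left] at h4
        exact hij h4.symm
      have hp : 0 < Nat.card ↥(A0 ⊓ V) := Nat.card_pos
      have h4 : Nat.card A * Nat.card ↥(A0 ⊓ V) ≤ Nat.card ↥(A0 ⊔ V : Subgroup G) * Nat.card ↥(A0 ⊓ V) := by
        rw [h1, hA.card_A0 h hij]
        calc 2 * Nat.card A0 * Nat.card ↥(A0 ⊓ V) = Nat.card A0 * (2 * Nat.card ↥(A0 ⊓ V)) := by ring
          _ ≤ Nat.card A0 * Nat.card V := Nat.mul_le_mul_left _ h2
      exact Nat.le_of_mul_le_mul_right h4 hp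
    set X := closure ({u, u'} : Set G) with hX
    have hXW : X ≤ WW ε := by
      rw [hX, closure_le]
      rintro y (rfl | rfl)
      · exact hu
      · exact hu'W
    have hXe : IsElementaryAbelian 2 X := isElementaryAbelian_mono WW_elem hXW
    have h1 := count hEe hXe hEmax
    -- `|E| ≤ 2 |C_E(X)|`
    have hQc : ∀ e ∈ A0 ⊔ V, ∃ a ∈ A0, ∃ v ∈ V, e = a * v := by
      intro e he
      obtain ⟨a, ha, v, hv, rfl⟩ := mem_sup_comm hcm he
      exact ⟨a, ha, v, hv, rfl⟩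
    have hvu : ∀ v ∈ V, ∀ y ∈ WW ε, v * y * v⁻¹ = y := fun v hv y hy => by
      rw [WW_comm (hVW hv) hy, mul_inv_cancel_right]
    have hfix : ∀ a ∈ A0, a * u * a⁻¹ = u → ∀ v ∈ V, a * v ∈ (A0 ⊔ V) ⊓ centralizer (X : Set G) := by
      intro a ha hau v hv
      refine ⟨mul_mem (mem_sup_left ha) (mem_sup_right hv), ?_⟩
      have e : a * c = c * a := elem_comm hA.elem a ha.1 c hcA
      have hau' : a * u' * a⁻¹ = u' := by
        calc a * u' * a⁻¹ = (a * c) * u * (a * c)⁻¹ := by rw [hu']; group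
          _ = c * (a * u * a⁻¹) * c⁻¹ := by rw [e]; group
          _ = u' := by rw [hau, hu']
      have h2 : X ≤ centralizer ({a * v} : Set G) := by
        rw [hX, closure_le]
        rintro y (rfl | rfl)
        · refine mem_centralizer_singleton_iff.2 (comm_of_conj ?_).symm
          calc a * v * y * (a * v)⁻¹ = a * (v * y * v⁻¹) * a⁻¹ := by group
            _ = y := by rw [hvu v hv y hu, hau]
        · refine mem_centralizer_singleton_iff.2 (comm_of_conj ?_).symm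
          calc a * v * y * (a * v)⁻¹ = a * (v * y * v⁻¹) * a⁻¹ := by group
            _ = y := by rw [hvu v hv y hu'W, hau']
      exact mem_centralizer_iff.2 fun y hy => mem_centralizer_singleton_iff.1 (h2 hy)
    have h2 : Nat.card ↥(A0 ⊔ V : Subgroup G) ≤ 2 * Nat.card ↥((A0 ⊔ V) ⊓ centralizer (X : Set G)) := by
      refine card_le_two (c := b) fun y hy hyC => ?_
      obtain ⟨a, ha, v, hv, rfl⟩ := hQc y hy
      have hau : a * u * a⁻¹ ≠ u := fun e => hyC (hfix a ha e v hv)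
      have hax := (hc a (hA0 ha)).resolve_left hau
      have e1 : b⁻¹ * (a * v) = (b⁻¹ * a) * v := by group
      rw [e1]
      refine hfix _ (mul_mem (inv_mem hb) ha) ?_ v hv
      calc b⁻¹ * a * u * (b⁻¹ * a)⁻¹ = b⁻¹ * (a * u * a⁻¹) * b := by group
        _ = b⁻¹ * (b * u * b⁻¹) * b := by rw [hax, hbx]
        _ = u := by group
    have h3 : Nat.card X ≤ 2 * Nat.card ↥(X ⊓ centralizer ((A0 ⊔ V : Subgroup G) : Set G)) := by
      have hp : 0 < Nat.card ↥((A0 ⊔ V) ⊓ centralizer (X : Set G)) := Nat.card_pos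
      have h4 : Nat.card ↥((A0 ⊔ V) ⊓ centralizer (X : Set G)) * Nat.card X ≤
          Nat.card ↥((A0 ⊔ V) ⊓ centralizer (X : Set G)) *
            (2 * Nat.card ↥(X ⊓ centralizer ((A0 ⊔ V : Subgroup G) : Set G))) := by
        calc _ = Nat.card X * Nat.card ↥((A0 ⊔ V) ⊓ centralizer (X : Set G)) := mul_comm _ _
          _ ≤ Nat.card ↥(A0 ⊔ V : Subgroup G) * Nat.card ↥(X ⊓ centralizer ((A0 ⊔ V : Subgroup G) : Set G)) := h1
          _ ≤ 2 * Nat.card ↥((A0 ⊔ V) ⊓ centralizer (X : Set G)) *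
              Nat.card ↥(X ⊓ centralizer ((A0 ⊔ V : Subgroup G) : Set G)) := Nat.mul_le_mul_right _ h2
          _ = _ := by ring
      exact Nat.le_of_mul_le_mul_left h4 hp
    have hnot : ∀ y, b * y * b⁻¹ ≠ y → y ∉ X ⊓ centralizer ((A0 ⊔ V : Subgroup G) : Set G) := by
      intro y hy hyC
      apply hy
      rw [mem_centralizer_iff.1 hyC.2 b (mem_sup_left hb), mul_inv_cancel_right]
    have h5 := two_cosets inf_le_left h3 (u := u) (v := u') (subset_closure (Set.mem_insert u {u'}))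
      (hnot u hbu) (subset_closure (Set.mem_insert_of_mem u rfl))
      (hnot u' (by rw [hbu']; exact fun e => hx'1 (mul_eq_right.1 e)))
    have h6 := mem_centralizer_iff.1 h5.2 b (mem_sup_left hb)
    have h7 : b * (u⁻¹ * u') * b⁻¹ = u⁻¹ * u' := by rw [h6, mul_inv_cancel_right]
    have h8 : b * (u⁻¹ * u') * b⁻¹ = (b * u * b⁻¹)⁻¹ * (b * u' * b⁻¹) := by group
    rw [h8, hbx, hbu'] at h7
    have h9 : u * x' = x' * u := WW_comm hu hx'W
    have h10 : x⁻¹ * x' = 1 := by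
      have e1 : (x * u)⁻¹ * (x' * u') = u⁻¹ * (x⁻¹ * x') * u' := by group
      rw [e1] at h7
      have e2 : u⁻¹ * (x⁻¹ * x') = u⁻¹ := mul_right_cancel h7
      exact mul_eq_left.1 e2
    exact (inv_mul_eq_one.1 h10).symm


/-- Conjugates of `V` centralised by `J(O₂(P))`. -/
theorem mem_of_centralizer (h : NSix.CaseJ.Base.Hyp S P ε) (h3 : 3 ≤ m) {g : G}
    (hc : jj (o2 P) ≤ centralizer ((cj g (zl (S : Subgroup G) P) : Subgroup G) : Set G)) :
    g ∈ normalizer (zl (S : Subgroup G) P : Set G) := by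
  obtain ⟨V, hV⟩ : ∃ V, V = zl (S : Subgroup G) P := ⟨_, rfl⟩
  rw [← hV] at hc ⊢
  have hsyl : Syl (o2 P) (centralizer (V : Set G)) := hV ▸ sylQ h
  have hsyl' : Syl (cj g (o2 P)) (centralizer ((cj g V : Subgroup G) : Set G)) := by
    rw [← cj_centralizer]
    refine ⟨cj_mono g hsyl.1, isPGroup_cj g hsyl.2.1, fun R hR hR2 hQR => ?_⟩
    have h1 := hsyl.2.2 (cj g⁻¹ R) (by
      have := cj_mono g⁻¹ hR
      rwa [cj_inv_cj] at this) (isPGroup_cj g⁻¹ hR2) (by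
      have := cj_mono g⁻¹ hQR
      rwa [cj_inv_cj] at this)
    rw [← h1, cj_cj_inv]
  have hJ2 : IsPGroup 2 (jj (o2 P)) := hsyl.2.1.to_le (ChoiceBase.jj_le _)
  obtain ⟨R, hR, hJR⟩ := exists_syl hJ2 hc
  obtain ⟨c, hcc, hcR⟩ := syl_conj hsyl' hR
  have h1 : jj (o2 P) ≤ cj (c * g) (o2 P) := by
    rw [← cj_cj, hcR]
    exact hJR
  have h2 : jj (o2 P) ≤ cj (c * g) (jj (o2 P)) := by
    rw [← jj_cj]
    conv_lhs => rw [jj_eq]
    refine sSup_le fun A hA => ChoiceBase.le_jj ⟨hA.1, (ChoiceBase.le_jj hA).trans h1, fun B hB _ => ?_⟩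
    exact card_le_AA h hA hB
  have h4 : cj (c * g) (jj (o2 P)) = jj (o2 P) :=
    (Subgroup.eq_of_le_of_card_ge h2 (card_cj _ _).le).symm
  have h5 : c * g ∈ normalizer (V : Set G) := hV ▸ J.N1.jjQ_le h h3 (mem_normalizer_iff_cj.2 h4)
  have h6 : cj c (cj g V) = cj g V :=
    cj_eq_of_mem_normalizer (centralizer_le_normalizer _ hcc)
  rw [cj_cj, cj_eq_of_mem_normalizer h5] at h6
  exact mem_normalizer_iff_cj.2 h6.symm

/-- **(N2+)** a conjugate of `V` under `C_G(z)` which is normalised by `J(O₂(P))` is `V`. -/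
theorem mem_of_jjQ (h : NSix.CaseJ.Base.Hyp S P ε) (hN : SN.Hyp S P m ε) {g : G}
    (hg : g ∈ centralizer ({zz ε 0} : Set G))
    (hJ : jj (o2 P) ≤ normalizer ((cj g (zl (S : Subgroup G) P) : Subgroup G) : Set G)) :
    g ∈ normalizer (zl (S : Subgroup G) P : Set G) := by
  classical
  have hM := NSix.Norm.evenSet' h.hm S h.ev h.SP h.fix0
  have h3 := h.three
  have hm3 : 3 ≤ m := hN.m3
  have hn : ∀ q ∈ jj (o2 P), g⁻¹ * q * g ∈ normalizer (zl (S : Subgroup G) P : Set G) := by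
    intro q hq
    refine mem_normalizer_of_cj_le ?_
    rintro _ ⟨v, hv, rfl⟩
    change g⁻¹ * q * g * v * (g⁻¹ * q * g)⁻¹ ∈ _
    have h3 : g * v * g⁻¹ ∈ cj g (zl (S : Subgroup G) P) := ⟨v, hv, rfl⟩
    have h4 := (mem_normalizer_iff.1 (hJ hq) _).1 h3
    rw [mem_cj] at h4
    have e : g⁻¹ * (q * (g * v * g⁻¹) * q⁻¹) * g = g⁻¹ * q * g * v * (g⁻¹ * q * g)⁻¹ := by group
    rwa [e] at h4
  let c : jj (o2 P) →* normalizer (zl (S : Subgroup G) P : Set G) :=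
    { toFun := fun q => ⟨g⁻¹ * q * g, hn q q.2⟩
      map_one' := Subtype.ext (by change g⁻¹ * 1 * g = 1; group)
      map_mul' := fun a b => Subtype.ext (by
        change g⁻¹ * (a * b) * g = g⁻¹ * a * g * (g⁻¹ * b * g); group) }
  let f : jj (o2 P) →* Equiv.Perm (Fin (2 ^ m + 1)) := (hM.hom h3).comp c
  have hacts : ∀ q : jj (o2 P), Acts ε (g⁻¹ * (q : G) * g) (f q) := fun q => hM.acts_hom h3 (c q)
  have hfeq : ∀ (q : jj (o2 P)) (σ : Equiv.Perm (Fin (2 ^ m + 1))), Acts ε (g⁻¹ * (q : G) * g) σ → f q = σ :=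
    fun q σ hσ => h.ev.acts_unique h3 (hacts q) hσ
  have hact : ∀ (q : jj (o2 P)) x, (q : G) * (g * ε x * g⁻¹) * (q : G)⁻¹ = g * ε (x ∘ (f q).symm) * g⁻¹ := by
    intro q x
    have h3 := hacts q x
    rw [← h3]; group
  have hJ2 : IsPGroup 2 (jj (o2 P)) := (sylQ h).2.1.to_le (ChoiceBase.jj_le _)
  by_cases hf : ∀ q, f q = 1
  · -- `J(Q)` centralises `V^g`
    refine mem_of_centralizer h hm3 fun q hq => mem_centralizer_iff.2 ?_
    rintro _ ⟨v, hv, rfl⟩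
    obtain ⟨x, rfl⟩ := h.ev.surj v hv
    have h4 := hact ⟨q, hq⟩ x
    rw [hf] at h4
    exact (mul_inv_eq_iff_eq_mul.1 h4).symm
  exfalso
  push Not at hf
  -- a transposition
  have htr : ∀ A ∈ AA (o2 P), ∀ a : jj (o2 P), (a : G) ∈ A → ∀ i, f a i ≠ i → f a (f a i) = i ∧
      ∃ b : jj (o2 P), f b = Equiv.swap i (f a i) := by
    intro A hA a ha i hi
    have hAn : cj g⁻¹ A ≤ normalizer (zl (S : Subgroup G) P : Set G) := by
      rintro _ ⟨b, hb, rfl⟩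
      have := hn b (ChoiceBase.le_jj hA hb)
      change g⁻¹ * b * g⁻¹⁻¹ ∈ _
      rwa [inv_inv]
    have hs := side_norm h (isElementaryAbelian_cj g⁻¹ hA.1) (fun C hC => by
      rw [card_cj]; exact card_le_AA h hA hC) hAn
    have e1 : g⁻¹ * (a : G) * g⁻¹⁻¹ = g⁻¹ * (a : G) * g := by rw [inv_inv]
    obtain ⟨τ, h4, h5⟩ := hs (g⁻¹ * (a : G) * g⁻¹⁻¹) ⟨a, ha, rfl⟩
    rw [e1] at h4
    have h6 := hfeq a τ h4
    subst h6
    obtain ⟨h7, b, hb, h8⟩ := h5 i hi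
    refine ⟨h7, ?_⟩
    rw [mem_cj, inv_inv] at hb
    refine ⟨⟨g * b * g⁻¹, ChoiceBase.le_jj hA hb⟩, hfeq _ _ ?_⟩
    have e2 : g⁻¹ * (g * b * g⁻¹) * g = b := by group
    change Acts ε (g⁻¹ * (g * b * g⁻¹) * g) _
    rwa [e2]
  -- two transpositions at the same letter
  have hsame : ∀ i j k, i ≠ j → i ≠ k → (∃ b, f b = Equiv.swap i j) → (∃ b, f b = Equiv.swap i k) → j = k := by
    rintro i j k hij hik ⟨a, ha⟩ ⟨b, hb⟩
    by_contra hjk
    have h4 := Equiv.Perm.isThreeCycle_swap_mul_swap_same hij hik hjk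
    rw [← ha, ← hb, ← map_mul] at h4
    have h5 : IsPGroup 2 f.range := hJ2.of_surjective f.rangeRestrict f.rangeRestrict_surjective
    exact not_threeCycle h5 (w := f (a * b)) ⟨a * b, rfl⟩ h4
  obtain ⟨i, j, hij, hb⟩ : ∃ i j, i ≠ j ∧ ∃ b, f b = Equiv.swap i j := by
    by_contra hcon
    push Not at hcon
    obtain ⟨q, hq⟩ := hf
    apply hq
    have h4 : (⊤ : Subgroup (jj (o2 P))) ≤ f.ker := by
      have h5 : jj (o2 P) ≤ f.ker.map (jj (o2 P)).subtype := by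
        conv_lhs => rw [jj_eq]
        refine sSup_le fun A hA a ha => ⟨⟨a, ChoiceBase.le_jj hA ha⟩, ?_, rfl⟩
        change f _ = 1
        ext i
        by_contra hi
        have hi' : f ⟨a, ChoiceBase.le_jj hA ha⟩ i ≠ i := fun e => hi (by rw [e]; rfl)
        obtain ⟨b, hb⟩ := (htr A hA ⟨a, ChoiceBase.le_jj hA ha⟩ ha i hi').2
        exact hcon i _ hi'.symm b hb
      intro x _
      obtain ⟨y, hy, hxy⟩ := h5 x.2
      have : y = x := Subtype.ext hxy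
      rwa [this] at hy
    exact h4 (mem_top q)
  -- the orbit of `i` is `{i, j}`
  have horb : ∀ q : jj (o2 P), (f q i = i ∨ f q i = j) ∧ (f q j = i ∨ f q j = j) := by
    let K : Subgroup (jj (o2 P)) :=
      { carrier := {q | (f q i = i ∨ f q i = j) ∧ (f q j = i ∨ f q j = j)}
        one_mem' := by rw [Set.mem_ofPred_eq, map_one]; exact ⟨Or.inl rfl, Or.inr rfl⟩
        mul_mem' := by
          intro a b ha hb
          rw [Set.mem_ofPred_eq, map_mul]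
          constructor
          · rcases hb.1 with h4 | h4
            · rw [Equiv.Perm.mul_apply, h4]; exact ha.1
            · rw [Equiv.Perm.mul_apply, h4]; exact ha.2
          · rcases hb.2 with h4 | h4
            · rw [Equiv.Perm.mul_apply, h4]; exact ha.1
            · rw [Equiv.Perm.mul_apply, h4]; exact ha.2
        inv_mem' := by
          intro a ha
          rw [Set.mem_ofPred_eq, map_inv]
          have e : ∀ x y, (f a) x = y → (f a)⁻¹ y = x := fun x y hxy => by rw [← hxy]; exact (f a).symm_apply_apply x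
          rcases ha.1 with h4 | h4 <;> rcases ha.2 with h5 | h5
          · exact absurd ((f a).injective (h4.trans h5.symm)) hij
          · exact ⟨Or.inl (e _ _ h4), Or.inr (e _ _ h5)⟩
          · exact ⟨Or.inr (e _ _ h5), Or.inl (e _ _ h4)⟩
          · exact absurd ((f a).injective (h4.trans h5.symm)) hij }
    have h5 : jj (o2 P) ≤ K.map (jj (o2 P)).subtype := by
      conv_lhs => rw [jj_eq]
      refine sSup_le fun A hA a ha => ⟨⟨a, ChoiceBase.le_jj hA ha⟩, ?_, rfl⟩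
      constructor
      · by_cases h4 : f ⟨a, ChoiceBase.le_jj hA ha⟩ i = i
        · exact Or.inl h4
        · exact Or.inr (hsame i _ _ (Ne.symm h4) hij (htr A hA ⟨a, ChoiceBase.le_jj hA ha⟩ ha i h4).2 hb)
      · by_cases h4 : f ⟨a, ChoiceBase.le_jj hA ha⟩ j = j
        · exact Or.inr h4
        · refine Or.inl (hsame j _ _ (Ne.symm h4) hij.symm (htr A hA ⟨a, ChoiceBase.le_jj hA ha⟩ ha j h4).2 ?_)
          obtain ⟨b, hb⟩ := hb
          exact ⟨b, by rw [hb, Equiv.swap_comm]⟩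
    intro q
    obtain ⟨y, hy, hxy⟩ := h5 q.2
    have : y = q := Subtype.ext hxy
    rw [this] at hy
    exact hy
  obtain ⟨b, hb⟩ := hb
  have hVW := V_le_WW hN
  -- `u`, `x`
  obtain ⟨u, hu⟩ : ∃ u, u = g * zz ε i * g⁻¹ := ⟨_, rfl⟩
  obtain ⟨x, hx⟩ : ∃ x, x = g * rr ε i j * g⁻¹ := ⟨_, rfl⟩
  have huW : u ∈ WW ε := hu ▸ WW_conj hg (hVW (zz_mem h.ev i))
  have hxW : x ∈ WW ε := hx ▸ WW_conj hg (hVW (rr_mem h.ev i j))
  have hxu : g * zz ε j * g⁻¹ = x * u := by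
    have e : rr ε i j * zz ε i = zz ε j := by
      change zz ε i * zz ε j * zz ε i = zz ε j
      rw [zz_comm h.ev i j, mul_assoc, zz_sq h.ev, mul_one]
    rw [hx, hu, ← e]; group
  have hzc : ∀ (q : jj (o2 P)) k, (q : G) * (g * zz ε k * g⁻¹) * (q : G)⁻¹ = g * zz ε (f q k) * g⁻¹ := by
    intro q k
    have h4 := zz_conj (hacts q) k
    calc (q : G) * (g * zz ε k * g⁻¹) * (q : G)⁻¹ = g * (g⁻¹ * q * g * zz ε k * (g⁻¹ * q * g)⁻¹) * g⁻¹ := by group
      _ = _ := by rw [h4]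
  have hc : ∀ q ∈ jj (o2 P), q * u * q⁻¹ = u ∨ q * u * q⁻¹ = x * u := by
    intro q hq
    have h4 := hzc ⟨q, hq⟩ i
    rcases (horb ⟨q, hq⟩).1 with h5 | h5
    · left; rw [h5] at h4; rw [hu]; exact h4
    · right; rw [h5, hxu] at h4; rw [hu]; rw [hu] at h4; exact h4
  have he : ∃ q ∈ jj (o2 P), q * u * q⁻¹ ≠ u := by
    refine ⟨b, b.2, fun h0 => ?_⟩
    have h4 := hzc b i
    rw [hb, Equiv.swap_apply_left, ← hu, h0, hu] at h4
    exact hij (h.ev.single_inj h3 (mul_left_cancel (mul_right_cancel h4)))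
  have hxc : ∀ q ∈ jj (o2 P), q * x = x * q := by
    intro q hq
    have h4 : x = (g * zz ε i * g⁻¹) * (g * zz ε j * g⁻¹) := by
      rw [hx]; change g * (zz ε i * zz ε j) * g⁻¹ = _; group
    have h5 : x = (g * zz ε j * g⁻¹) * (g * zz ε i * g⁻¹) := by
      rw [hx, rr_symm h.ev]; change g * (zz ε j * zz ε i) * g⁻¹ = _; group
    refine comm_of_conj ?_
    have h6 : q * x * q⁻¹ = (q * (g * zz ε i * g⁻¹) * q⁻¹) * (q * (g * zz ε j * g⁻¹) * q⁻¹) := by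
      conv_lhs => rw [h4]
      group
    have h7 := hzc ⟨q, hq⟩ i
    have h8 := hzc ⟨q, hq⟩ j
    rw [h6, h7, h8]
    have h9 : f ⟨q, hq⟩ i ≠ f ⟨q, hq⟩ j := fun e => hij ((f ⟨q, hq⟩).injective e)
    rcases (horb ⟨q, hq⟩).1 with h10 | h10 <;> rcases (horb ⟨q, hq⟩).2 with h11 | h11
    · exact absurd (h10.trans h11.symm) h9
    · rw [h10, h11]; exact h4.symm
    · rw [h10, h11]; exact h5.symm
    · exact absurd (h10.trans h11.symm) h9
  have hx2 : x * x = 1 := WW_sq hxW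
  have hxQ : x ∈ o2 P := WW_le_Q h hN hxW
  have hxJ : x ∈ zj (o2 P) :=
    ChoiceBase.mem_zj.2 ⟨mem_jj_of_comm hxQ (by rw [pow_two]; exact hx2) hxc, by rw [pow_two]; exact hx2, hxc⟩
  rcases alt h hxJ with h4 | h4
  · -- `x ∈ V`
    obtain ⟨y, hy⟩ := h.ev.surj x h4
    have h5 : ∀ a b, a ≠ 0 → b ≠ 0 → y a = y b := by
      intro a b ha hb
      by_cases hab : a = b
      · rw [hab]
      obtain ⟨A, hA⟩ := exists_ex h hab
      obtain ⟨c, hcA, hc1⟩ := hA.ex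
      have h6 := ex_comm h hN huW hxW hxJ hc he ha hb hab hA hcA
      rw [← hy] at h6
      exact (swap_comm_iff h.ev h3 hab hc1 y).1 (comm_of_conj h6)
    have h01 : ∀ a b : ZMod 2, a = b ∨ a = b + 1 := by decide
    -- `x ∈ {1, z}`
    have h6 : x = 1 ∨ x = zz ε 0 := by
      have hl := zero_ne_last m
      have h7 : ∀ a, a ≠ 0 → y a = y (Fin.last (2 ^ m)) := fun a ha => h5 a _ ha hl.symm
      rcases h01 (y 0) (y (Fin.last (2 ^ m))) with h8 | h8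
      · left
        rw [← hy, h.ev.ker]
        have h9 : ∀ a, y a = y 0 := fun a => by
          by_cases ha : a = 0
          · rw [ha]
          · rw [h7 a ha, h8]
        rcases (by decide : ∀ t : ZMod 2, t = 0 ∨ t = 1) (y 0) with h10 | h10
        · left; funext a; rw [h9, h10]; rfl
        · right; funext a; rw [h9, h10]; rfl
      · right
        rw [← hy]
        change ε y = ε (Pi.single 0 1)
        rw [h.ev.eq_iff]
        have h9 : ∀ a, y a = (Pi.single 0 1 : Fin (2 ^ m + 1) → ZMod 2) a + y (Fin.last (2 ^ m)) := fun a => by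
          by_cases ha : a = 0
          · rw [ha, Pi.single_eq_same, h8, add_comm]
          · rw [h7 a ha, Pi.single_eq_of_ne ha, zero_add]
        rcases (by decide : ∀ t : ZMod 2, t = 0 ∨ t = 1) (y (Fin.last (2 ^ m))) with h10 | h10
        · left; funext a; rw [h9, h10, add_zero]
        · right; funext a; rw [h9, h10]; rfl
    rcases h6 with h6 | h6
    · rw [hx] at h6
      exact rr_ne_one h.ev h3 hij (conj_eq_one_iff.1 h6)
    · exact J.N1.zz_ne h hm3 i j g (by rw [← hx, h6])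
  · -- `x^Q = V x`
    obtain ⟨q, hq, hqx⟩ := h4 (zz ε (Fin.last (2 ^ m))) (zz_mem h.ev _)
    have hqz := Q_le_cz h hq
    have hqP := h.QP hq
    set u' := q * u * q⁻¹ with hu'
    have hc' : ∀ r ∈ jj (o2 P), r * u' * r⁻¹ = u' ∨ r * u' * r⁻¹ = (q * x * q⁻¹) * u' := by
      intro r hr
      have hr' : q⁻¹ * r * q⁻¹⁻¹ ∈ jj (o2 P) := jjQ_conj (inv_mem hqP) hr
      have e : r * u' * r⁻¹ = q * ((q⁻¹ * r * q⁻¹⁻¹) * u * (q⁻¹ * r * q⁻¹⁻¹)⁻¹) * q⁻¹ := by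
        rw [hu']; group
      rcases hc _ hr' with h5 | h5
      · left; rw [e, h5]
      · right; rw [e, h5, hu']; group
    have he' : ∃ r ∈ jj (o2 P), r * u' * r⁻¹ ≠ u' := by
      obtain ⟨r, hr, hru⟩ := he
      refine ⟨q * r * q⁻¹, jjQ_conj hqP hr, fun h5 => hru ?_⟩
      have e : (q * r * q⁻¹) * u' * (q * r * q⁻¹)⁻¹ = q * (r * u * r⁻¹) * q⁻¹ := by rw [hu']; group
      rw [e, hu'] at h5
      exact mul_left_cancel (mul_right_cancel h5)
    have hxJ' : q * x * q⁻¹ ∈ zj (o2 P) := zjQ_norm h hqP hxJ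
    have hmem : ∃ k : Fin (2 ^ m + 1), k ∉ ({0, Fin.last (2 ^ m)} : Finset (Fin (2 ^ m + 1))) :=
      exists_not_mem _ (by
        have h5 : ({0, Fin.last (2 ^ m)} : Finset (Fin (2 ^ m + 1))).card ≤ 2 := Finset.card_le_two
        have := h.five
        omega)
    obtain ⟨k, hk⟩ := hmem
    simp only [Finset.mem_insert, Finset.mem_singleton, not_or] at hk
    obtain ⟨A, hA⟩ := exists_ex h hk.2
    obtain ⟨c, hcA, hc1⟩ := hA.ex
    have h5 := ex_comm h hN huW hxW hxJ hc he hk.1 (zero_ne_last m).symm hk.2 hA hcA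
    have h6 := ex_comm h hN (WW_conj hqz huW) (WW_conj hqz hxW) hxJ' hc' he' hk.1 (zero_ne_last m).symm hk.2
      hA hcA
    rw [hqx] at h6
    have h7 : c * (zz ε (Fin.last (2 ^ m)) * x) * c⁻¹ =
        (c * zz ε (Fin.last (2 ^ m)) * c⁻¹) * (c * x * c⁻¹) := by group
    rw [h7, h5] at h6
    have h8 := mul_right_cancel h6
    have h9 := (h.ev.fixes_iff h3 hc1 (Fin.last (2 ^ m))).1 (comm_of_conj h8)
    rw [Equiv.swap_apply_right] at h9
    exact hk.2 h9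

/-- The 2-subgroups of `C_G(z)` over `J(O₂(P))` normalise `V`. -/
theorem two_le (h : NSix.CaseJ.Base.Hyp S P ε) (hN : SN.Hyp S P m ε) {T : Subgroup G} (hT : IsPGroup 2 T)
    (hTz : T ≤ centralizer ({zz ε 0} : Set G)) (hJ : jj (o2 P) ≤ T) :
    T ≤ normalizer (zl (S : Subgroup G) P : Set G) := by
  set L := normalizer (zl (S : Subgroup G) P : Set G) with hL
  have hJL : jj (o2 P) ≤ L := (ChoiceBase.jj_le _).trans ((sylQ h).1.trans (centralizer_le_normalizer _))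
  have h1 := ChoiceNse.eq_of_normalizer_inf_le (T := T ⊓ L) (P := T) hT inf_le_left (by
    rintro t ⟨ht, htT⟩
    refine ⟨htT, mem_of_jjQ h hN (hTz htT) ?_⟩
    have h2 : cj t (T ⊓ L) = T ⊓ L := cj_eq_of_mem_normalizer ht
    have h3 : jj (o2 P) ≤ cj t (T ⊓ L) := by rw [h2]; exact le_inf hJ hJL
    refine h3.trans ((cj_mono t inf_le_right).trans ?_)
    rw [hL, cj_normalizer])
  rw [← h1]
  exact inf_le_right

end Cfsg.Agent.Omega.NO3S.SN.TwoP

end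

section


/-!
# THEOREM SN, K-free part, case `J(S) ≰ O₂(P)`: the relative frame (helper586 #20800, helper28 #21330)

`M₀` any subgroup with `N_G(V) ∩ C_G(z) ≤ M₀`; `D` maximal among the subgroups `z ∈ D ≤ V` with `C_G(D) ≰ M₀`;
`O₂(P) ≤ T ∈ Syl₂(C_G(D))`; `R` minimal with `T ≤ R ≤ C_G(D)`, `R ≰ M₀`.

* `Fr.exists_of` : existence;
* `Fr.T_le` : `T ≤ N_G(V)`;
* `Fr.TI` : `c ∈ C_G(D) ∖ M₀` implies `V ∩ V^c = D`;
* `Fr.isMinPar`, `Fr.sylR` : `R` is a minimal parabolic over `T ∈ Syl₂(R)`;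
* `Fr.of_le`, `Fr.of_ne` : a normal subgroup `N₀` of `R` with `N₀ ≤ M₀` or `N₀ T ≠ R` has `T ∩ N₀ ≤ O₂(R)`, `N₀ ≤ M₀`;
* `Fr.nJ` : `J(O₂(P)) ≰ O₂(R)`;
* `Fr.normT` : `N_R(T) ≤ N_G(V)`;
* `Fr.norm_cj` : `O₂(R)` normalises `V^x`, `x ∈ R`;
* `Fr.mem_of_fix`: `v ∈ V`, `[v, R] ≤ D` implies `v ∈ D`; `Fr.oddGen` the same for `O²(R)`.
-/

set_option autoImplicit false
set_option linter.unusedSectionVars false

namespace Cfsg.Agent.Omega.NO3S.SN.TwoP

open Subgroup Cfsg Cfsg.Agent.PLocal.ThompsonJ Cfsg.Agent.ZN Cfsg.Agent.ZN.ChoiceBase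
open Cfsg.Agent.ZN.ChoiceSit Cfsg.Agent.PLocal.ElemAbSup
open Cfsg.Agent.Omega.MinPar
open Cfsg.Agent.Omega.S5.Def Cfsg.Agent.Omega.S5.Syl Cfsg.Agent.Omega.S5.Pair
open Cfsg.Agent.Omega.NSix.Base Cfsg.Agent.Omega.NSix.Basic
open Cfsg.Agent.Omega.SQ1.Bau (mem_AA_of_comm elem_comm elem_sq mem_sup_comm card_sup_comm)
open Cfsg.Agent.Omega.NSix.CaseJ.Base Cfsg.Agent.Omega.NSix.CaseJ.Exact
open Cfsg.Agent.Omega.NSix.CaseJ.LemQ
open Cfsg.Agent.MinSimple.MinParabolic (IsMinPar)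
open Cfsg.Agent.MinSimple.VModule (oddGen oddGen_le mem_oddGen le_normalizer_oddGen oddGen_le_of_sup)

universe u

variable {G : Type u} [Group G] [Finite G] {S : Sylow 2 G} {P : Subgroup G} {m : ℕ}
  {ε : (Fin (2 ^ m + 1) → ZMod 2) → G}

/-- **The relative frame.** -/
structure Fr (S : Sylow 2 G) (P : Subgroup G) {m : ℕ} (ε : (Fin (2 ^ m + 1) → ZMod 2) → G)
    (M₀ D T R : Subgroup G) : Prop where
  h : NSix.CaseJ.Base.Hyp S P ε
  hN : SN.Hyp S P m ε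
  le_M₀ : normalizer (zl (S : Subgroup G) P : Set G) ⊓ centralizer ({zz ε 0} : Set G) ≤ M₀
  D_le : D ≤ zl (S : Subgroup G) P
  z_mem : zz ε 0 ∈ D
  max : ∀ E : Subgroup G, D < E → E ≤ zl (S : Subgroup G) P → centralizer (E : Set G) ≤ M₀
  QT : o2 P ≤ T
  syl : Syl T (centralizer (D : Set G))
  TR : T ≤ R
  RC : R ≤ centralizer (D : Set G)
  nR : ¬ R ≤ M₀
  min : ∀ K : Subgroup G, T ≤ K → K < R → K ≤ M₀

/-- Existence of `T` and `R`. -/
theorem Fr.exists_of (h : NSix.CaseJ.Base.Hyp S P ε) (hN : SN.Hyp S P m ε) {M₀ D : Subgroup G}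
    (hL : normalizer (zl (S : Subgroup G) P : Set G) ⊓ centralizer ({zz ε 0} : Set G) ≤ M₀)
    (hD : D ≤ zl (S : Subgroup G) P) (hz : zz ε 0 ∈ D)
    (hmax : ∀ E : Subgroup G, D < E → E ≤ zl (S : Subgroup G) P → centralizer (E : Set G) ≤ M₀)
    (hn : ¬ centralizer (D : Set G) ≤ M₀) : ∃ T R : Subgroup G, Fr S P ε M₀ D T R := by
  have hQD : o2 P ≤ centralizer (D : Set G) :=
    (sylQ h).1.trans (centralizer_le (SetLike.coe_subset_coe.2 hD))
  obtain ⟨T, hT, hQT⟩ := exists_syl (sylQ h).2.1 hQD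
  obtain ⟨R, ⟨hR1, hR2, hR3⟩, hmin⟩ := Set.Finite.exists_minimal
    (s := {K : Subgroup G | T ≤ K ∧ K ≤ centralizer (D : Set G) ∧ ¬ K ≤ M₀}) (Set.toFinite _)
    ⟨centralizer (D : Set G), hT.1, le_rfl, hn⟩
  refine ⟨T, R, h, hN, hL, hD, hz, hmax, hQT, hT, hR1, hR2, hR3, fun K hK hKR => ?_⟩
  by_contra hcon
  exact hKR.not_ge (hmin ⟨hK, hKR.le.trans hR2, hcon⟩ hKR.le)

/-- Existence of `D`, `T` and `R`. -/
theorem Fr.exists_of' (h : NSix.CaseJ.Base.Hyp S P ε) (hN : SN.Hyp S P m ε) {M₀ : Subgroup G}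
    (hL : normalizer (zl (S : Subgroup G) P : Set G) ⊓ centralizer ({zz ε 0} : Set G) ≤ M₀)
    (hn : ¬ centralizer ({zz ε 0} : Set G) ≤ M₀) : ∃ D T R : Subgroup G, Fr S P ε M₀ D T R := by
  obtain ⟨D, ⟨hD1, hD2, hD3⟩, hmax⟩ := Set.Finite.exists_maximal
    (s := {D : Subgroup G | zz ε 0 ∈ D ∧ D ≤ zl (S : Subgroup G) P ∧ ¬ centralizer (D : Set G) ≤ M₀})
    (Set.toFinite _) ⟨zpowers (zz ε 0), mem_zpowers _, zpowers_le.2 (zz_mem h.ev 0), fun h0 => hn (le_trans (by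
      intro x hx
      rw [mem_centralizer_iff]
      intro y hy
      obtain ⟨k, rfl⟩ := mem_zpowers_iff.1 hy
      have h1 : Commute (zz ε 0) x := (mem_centralizer_singleton_iff.1 hx).symm
      exact (h1.zpow_left k).eq) h0)⟩
  refine ⟨D, Fr.exists_of h hN hL hD2 hD1 (fun E hDE hEV => ?_) hD3⟩
  by_contra hcon
  exact hDE.not_ge (hmax ⟨hDE.le hD1, hEV, hcon⟩ hDE.le)

/-- `R = O²(R) T` -/
theorem oddGen_sup {R T : Subgroup G} (hS : Syl T R) : oddGen R ⊔ T = R := by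
  have : Fact (Nat.Prime 2) := ⟨Nat.prime_two⟩
  have hSyl := syl_not_dvd hS
  apply le_antisymm (sup_le (oddGen_le R) hS.1)
  have hN : ((oddGen R).subgroupOf R).Normal := normal_subgroupOf_of_le_normalizer (le_normalizer_oddGen R)
  have h1 : IsPGroup 2 (R ⧸ (oddGen R).subgroupOf R) := by
    intro q
    obtain ⟨x, rfl⟩ := QuotientGroup.mk_surjective q
    obtain ⟨a, m, hm, ha⟩ := Nat.exists_eq_pow_mul_and_not_dvd (orderOf_pos (x : G)).ne' 2 (by norm_num)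
    refine ⟨a, ?_⟩
    rw [← QuotientGroup.mk_pow, QuotientGroup.eq_one_iff, mem_subgroupOf]
    refine mem_oddGen (R.pow_mem x.2 _) ?_
    have hm0 : 0 < m := Nat.pos_of_ne_zero (by rintro rfl; simp at hm)
    have h2 : orderOf ((x : G) ^ 2 ^ a) = m := by
      rw [orderOf_pow_of_dvd (by positivity) (ha ▸ Dvd.intro _ rfl), ha, Nat.mul_div_cancel_left _ (by positivity)]
    rw [coe_pow, h2]
    exact Nat.not_even_iff_odd.1 fun h => hm h.two_dvd
  obtain ⟨k, hk⟩ := IsPGroup.iff_card.1 h1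
  have h2 : (oddGen R ⊔ T).relIndex R ∣ 2 ^ k := by
    have h3 : (oddGen R ⊔ T).relIndex R ∣ (oddGen R).relIndex R := relIndex_dvd_of_le_left _ le_sup_left
    have h4 : (oddGen R).relIndex R = 2 ^ k := by
      rw [← hk, relIndex, index_eq_card]
    rwa [h4] at h3
  obtain ⟨j, -, hj⟩ := (Nat.dvd_prime_pow Nat.prime_two).1 h2
  have h5 : (oddGen R ⊔ T).relIndex R ∣ T.relIndex R := relIndex_dvd_of_le_left _ le_sup_right
  rw [hj] at h5
  rcases Nat.eq_zero_or_pos j with rfl | hj0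
  · rw [pow_zero] at hj
    exact relIndex_eq_one.1 hj
  · exact absurd ((dvd_pow_self 2 hj0.ne').trans h5) hSyl

namespace Fr

variable {M₀ D T R : Subgroup G} (f : Fr S P ε M₀ D T R)
include f

theorem D_cz : centralizer (D : Set G) ≤ centralizer ({zz ε 0} : Set G) :=
  centralizer_le (Set.singleton_subset_iff.2 f.z_mem)

theorem R_cz : R ≤ centralizer ({zz ε 0} : Set G) := f.RC.trans f.D_cz

theorem T2 : IsPGroup 2 T := f.syl.2.1

theorem JT : jj (o2 P) ≤ T := (ChoiceBase.jj_le _).trans f.QT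

/-- `T ≤ N_G(V)`. -/
theorem T_le : T ≤ normalizer (zl (S : Subgroup G) P : Set G) :=
  two_le f.h f.hN f.T2 (f.TR.trans f.R_cz) f.JT

theorem T_M₀ : T ≤ M₀ := (le_inf f.T_le (f.TR.trans f.R_cz)).trans f.le_M₀

/-- **(TI)** -/
theorem TI {c v : G} (hc : c ∈ centralizer (D : Set G)) (hcM : c ∉ M₀) (hv : v ∈ zl (S : Subgroup G) P)
    (hv' : c * v * c⁻¹ ∈ zl (S : Subgroup G) P) : v ∈ D := by
  by_contra hvD
  set V := zl (S : Subgroup G) P with hV
  set E := V ⊓ cj c V with hE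
  have hcD : ∀ d ∈ D, c * d * c⁻¹ = d := fun d hd => by
    rw [← mem_centralizer_iff.1 hc d hd, mul_inv_cancel_right]
  have hDE : D ≤ E := fun d hd => ⟨f.D_le hd, ⟨d, f.D_le hd, hcD d hd⟩⟩
  have hvE : c * v * c⁻¹ ∈ E := ⟨hv', ⟨v, hv, rfl⟩⟩
  have hvD' : c * v * c⁻¹ ∉ D := fun h0 => hvD (by
    have h1 := hcD _ h0
    have h2 : v = c⁻¹ * (c * v * c⁻¹) * c := by group
    have h3 : c⁻¹ * (c * v * c⁻¹) * c = c * v * c⁻¹ := by
      have h4 := mem_centralizer_iff.1 hc _ h0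
      calc c⁻¹ * (c * v * c⁻¹) * c = c⁻¹ * ((c * v * c⁻¹) * c) := by group
        _ = c⁻¹ * (c * (c * v * c⁻¹)) := by rw [h4]
        _ = c * v * c⁻¹ := by group
    rw [h2, h3]; exact h0)
  have hlt : D < E := lt_of_le_of_ne hDE fun e => hvD' (e ▸ hvE)
  have hEM := f.max E hlt inf_le_left
  have hEz : centralizer (E : Set G) ≤ centralizer ({zz ε 0} : Set G) :=
    centralizer_le (Set.singleton_subset_iff.2 (hDE f.z_mem))
  -- Sylow subgroups of `C_G(E)`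
  have hQ1 : o2 P ≤ centralizer (E : Set G) :=
    (sylQ f.h).1.trans (centralizer_le (SetLike.coe_subset_coe.2 inf_le_left))
  have hQ2 : cj c (o2 P) ≤ centralizer (E : Set G) := by
    have h1 := cj_mono c (sylQ f.h).1
    rw [cj_centralizer] at h1
    exact h1.trans (centralizer_le (SetLike.coe_subset_coe.2 inf_le_right))
  obtain ⟨T₁, hT₁, hQT₁⟩ := exists_syl (sylQ f.h).2.1 hQ1
  obtain ⟨T₂, hT₂, hQT₂⟩ := exists_syl (isPGroup_cj c (sylQ f.h).2.1) hQ2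
  obtain ⟨d, hd, hdT⟩ := syl_conj hT₁ hT₂
  have h1 : T₁ ≤ normalizer (V : Set G) :=
    two_le f.h f.hN hT₁.2.1 (hT₁.1.trans hEz) ((ChoiceBase.jj_le _).trans hQT₁)
  have h2 : o2 P ≤ normalizer ((cj (c⁻¹ * d) V : Subgroup G) : Set G) := by
    have h3 : cj c (o2 P) ≤ cj d (normalizer (V : Set G)) := hQT₂.trans (hdT ▸ cj_mono d h1)
    rw [← cj_normalizer, ← cj_cj]
    exact cj_le_iff.1 h3
  have hz : c⁻¹ * d ∈ centralizer ({zz ε 0} : Set G) := mul_mem (inv_mem (f.D_cz hc)) (hEz hd)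
  have h4 : c⁻¹ * d ∈ normalizer (V : Set G) := J.N2.mem_of_Q_le f.h f.hN hz h2
  have h5 : c⁻¹ * d ∈ M₀ := f.le_M₀ ⟨h4, hz⟩
  have h6 := mul_mem (hEM hd) (inv_mem h5)
  have e : d * (c⁻¹ * d)⁻¹ = c := by group
  rw [e] at h6
  exact hcM h6

theorem not_le : ¬ R ≤ normalizer (zl (S : Subgroup G) P : Set G) := fun h0 =>
  f.nR ((le_inf h0 f.R_cz).trans f.le_M₀)

/-- `N_R(T) ≤ N_G(V)`. -/
theorem normT {r : G} (hr : r ∈ R) (hn : r ∈ normalizer (T : Set G)) :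
    r ∈ normalizer (zl (S : Subgroup G) P : Set G) := by
  refine mem_of_jjQ f.h f.hN (f.R_cz hr) ?_
  have h1 := cj_mono r f.T_le
  rw [cj_eq_of_mem_normalizer hn, cj_normalizer] at h1
  exact f.JT.trans h1

theorem sylR : Syl T R := ⟨f.TR, f.T2, fun Q hQ hQ2 hTQ => f.syl.2.2 Q (hQ.trans f.RC) hQ2 hTQ⟩

theorem isMinPar : IsMinPar T R where
  le := f.TR
  not_le h0 := f.not_le fun _ hr => f.normT hr (h0 hr)
  exists_max := by
    refine ⟨R ⊓ M₀, lt_of_le_of_ne inf_le_left fun h0 => f.nR (inf_eq_left.1 h0), fun K hK hKR => ?_⟩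
    exact le_inf hKR.le (f.min K hK hKR)

/-- A normal subgroup of `R` which does not supplement `T` lies in `M₀`. -/
theorem of_ne {N₀ : Subgroup G} (hN₀ : N₀ ≤ R) (hn : R ≤ normalizer (N₀ : Set G)) (hne : N₀ ⊔ T ≠ R) :
    N₀ ≤ M₀ ∧ T ⊓ N₀ ≤ o2 R := by
  constructor
  · exact le_sup_left.trans (f.min (N₀ ⊔ T) le_sup_right (lt_of_le_of_ne (sup_le hN₀ f.TR) hne))
  · have hfact : Fact (Nat.Prime 2) := ⟨Nat.prime_two⟩
    exact (f.isMinPar.sup_eq_or_inf_le f.T2 (syl_not_dvd f.sylR) hN₀ hn).resolve_left hne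

/-- A normal subgroup of `R` in `M₀`. -/
theorem of_le {N₀ : Subgroup G} (hN₀ : N₀ ≤ R) (hn : R ≤ normalizer (N₀ : Set G)) (hle : N₀ ≤ M₀) :
    T ⊓ N₀ ≤ o2 R :=
  (f.of_ne hN₀ hn fun h0 => f.nR (by rw [← h0]; exact sup_le hle f.T_M₀)).2

theorem OT : o2 R ≤ T := ChoiceSit.o2_le_syl f.sylR

/-- `O₂(R)` normalises the `R`-conjugates of `V`. -/
theorem norm_cj {r : G} (hr : r ∈ R) :
    o2 R ≤ normalizer ((cj r (zl (S : Subgroup G) P) : Subgroup G) : Set G) := by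
  rw [← cj_normalizer]
  have h1 := cj_mono r (f.OT.trans f.T_le)
  rwa [cj_eq_of_mem_normalizer (MinSimple.VModule.le_normalizer_o2 R hr)] at h1

/-- `J(O₂(P)) ≰ O₂(R)`. -/
theorem nJ : ¬ jj (o2 P) ≤ o2 R := fun h0 =>
  f.not_le fun _ hr => mem_of_jjQ f.h f.hN (f.R_cz hr) (h0.trans (f.norm_cj hr))

/-- `v ∈ V`, `[v, c] ∈ V`, `v ∉ D` implies `c ∈ M₀`. -/
theorem mem_M₀ {c v : G} (hc : c ∈ R) (hv : v ∈ zl (S : Subgroup G) P) (hvD : v ∉ D)
    (hv' : c * v * c⁻¹ * v⁻¹ ∈ zl (S : Subgroup G) P) : c ∈ M₀ := by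
  by_contra hcon
  refine hvD (f.TI (f.RC hc) hcon hv ?_)
  have h1 := mul_mem hv' hv
  rwa [inv_mul_cancel_right] at h1

/-- `R` moves every `v ∈ V ∖ D` modulo `V`. -/
theorem mem_of_fix {v : G} (hv : v ∈ zl (S : Subgroup G) P)
    (hc : ∀ r ∈ R, r * v * r⁻¹ * v⁻¹ ∈ zl (S : Subgroup G) P) : v ∈ D := by
  by_contra hvD
  exact f.nR fun r hr => f.mem_M₀ hr hv hvD (hc r hr)

/-- `O²(R)` moves every `v ∈ V ∖ D` modulo `V`. -/
theorem mem_of_oddGen {v : G} (hv : v ∈ zl (S : Subgroup G) P)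
    (hc : ∀ r ∈ oddGen R, r * v * r⁻¹ * v⁻¹ ∈ zl (S : Subgroup G) P) : v ∈ D := by
  by_contra hvD
  have h1 : oddGen R ≤ M₀ := fun r hr => f.mem_M₀ (oddGen_le R hr) hv hvD (hc r hr)
  have h2 : oddGen R ⊔ T = R := oddGen_sup f.sylR
  exact f.nR (by rw [← h2]; exact sup_le h1 f.T_M₀)

end Fr

end Cfsg.Agent.Omega.NO3S.SN.TwoP

end

section


/-!
# THEOREM SN, K-free part, case `J(S) ≰ O₂(P)`: the `R`-modules `D ⟨w ^ R⟩`

* `Mod D R w` : `D ⟨w ^ R⟩`;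
* `Fr.comm_Mod` : `[w, T] ⊆ {1, x}`, `x ∈ D`: `[D ⟨w ^ R⟩, O₂(R)] ⊆ {1, x}`;
* `Fr.mem_O` : `b ∈ T`, `[M, b] ≤ D`, `M` an `R`-invariant subgroup with `V ∩ M ≰ D`: `b ∈ O₂(R)`;
* `Fr.perm_T` : `rr i i' ∈ D`: `T` preserves `{i, i'}`.
-/

set_option autoImplicit false
set_option linter.unusedSectionVars false

namespace Cfsg.Agent.Omega.NO3S.SN.TwoP

open Subgroup Cfsg Cfsg.Agent.PLocal.ThompsonJ Cfsg.Agent.ZN Cfsg.Agent.ZN.ChoiceBase
open Cfsg.Agent.ZN.ChoiceSit Cfsg.Agent.PLocal.ElemAbSup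
open Cfsg.Agent.Omega.MinPar
open Cfsg.Agent.Omega.S5.Def Cfsg.Agent.Omega.S5.Syl Cfsg.Agent.Omega.S5.Pair
open Cfsg.Agent.Omega.NSix.Base Cfsg.Agent.Omega.NSix.Basic
open Cfsg.Agent.Omega.NSix.CaseJ.Base Cfsg.Agent.Omega.NSix.CaseJ.Exact
open Cfsg.Agent.Omega.NSix.CaseJ.LemQ

universe u

variable {G : Type u} [Group G]

/-- `D ⟨w ^ R⟩` -/
def Mod (D R : Subgroup G) (w : G) : Subgroup G := D ⊔ closure {x | ∃ r ∈ R, x = r * w * r⁻¹}

theorem D_le_Mod (D R : Subgroup G) (w : G) : D ≤ Mod D R w := le_sup_left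

theorem conj_mem_Mod {D R : Subgroup G} {w r : G} (hr : r ∈ R) : r * w * r⁻¹ ∈ Mod D R w :=
  mem_sup_right (subset_closure ⟨r, hr, rfl⟩)

theorem mem_Mod (D R : Subgroup G) (w : G) : w ∈ Mod D R w := by
  have := conj_mem_Mod (D := D) (w := w) R.one_mem
  rwa [one_mul, inv_one, mul_one] at this

theorem Mod_le {D R K : Subgroup G} {w : G} (hD : D ≤ K) (hw : ∀ r ∈ R, r * w * r⁻¹ ∈ K) : Mod D R w ≤ K := by
  refine sup_le hD ?_
  rw [closure_le]
  rintro _ ⟨r, hr, rfl⟩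
  exact hw r hr

/-- `R` normalises `D ⟨w ^ R⟩`. -/
theorem Mod_conj {D R : Subgroup G} (hD : ∀ r ∈ R, ∀ d ∈ D, r * d * r⁻¹ ∈ D) {w r e : G} (hr : r ∈ R)
    (he : e ∈ Mod D R w) : r * e * r⁻¹ ∈ Mod D R w := by
  have h1 : Mod D R w ≤ (Mod D R w).comap (MulAut.conj r).toMonoidHom := by
    refine Mod_le (fun d hd => D_le_Mod _ _ _ (hD r hr d hd)) fun s hs => ?_
    change r * (s * w * s⁻¹) * r⁻¹ ∈ Mod D R w
    have e1 : r * (s * w * s⁻¹) * r⁻¹ = (r * s) * w * (r * s)⁻¹ := by group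
    rw [e1]
    exact conj_mem_Mod (R.mul_mem hr hs)
  exact h1 he

theorem conj_D {D R : Subgroup G} (hR : R ≤ centralizer (D : Set G)) {r d : G} (hr : r ∈ R) (hd : d ∈ D) :
    r * d * r⁻¹ = d := by
  rw [← mem_centralizer_iff.1 (hR hr) d hd, mul_inv_cancel_right]

variable [Finite G] {S : Sylow 2 G} {P : Subgroup G} {m : ℕ} {ε : (Fin (2 ^ m + 1) → ZMod 2) → G}

namespace Fr

variable {M₀ D T R : Subgroup G} (f : Fr S P ε M₀ D T R)
include f

theorem conj_D {r d : G} (hr : r ∈ R) (hd : d ∈ D) : r * d * r⁻¹ = d := TwoP.conj_D f.RC hr hd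

theorem Mod_norm {w r e : G} (hr : r ∈ R) (he : e ∈ Mod D R w) : r * e * r⁻¹ ∈ Mod D R w :=
  Mod_conj (fun _ hr _ hd => by rw [f.conj_D hr hd]; exact hd) hr he

theorem V_WW : zl (S : Subgroup G) P ≤ WW ε := V_le_WW f.hN

theorem D_WW : D ≤ WW ε := f.D_le.trans f.V_WW

theorem Mod_WW {w : G} (hw : w ∈ WW ε) : Mod D R w ≤ WW ε :=
  Mod_le f.D_WW fun _ hr => WW_conj (f.R_cz hr) hw

theorem WW_T : WW ε ≤ T := (WW_le_Q f.h f.hN).trans f.QT

/-- the commutators with `O₂(R)` -/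
theorem comm_Mod {w x : G} (hw : w ∈ WW ε) (hx : x ∈ D) (hc : ∀ t ∈ T, t * w * t⁻¹ * w⁻¹ = 1 ∨ t * w * t⁻¹ * w⁻¹ = x)
    {b e : G} (hb : b ∈ o2 R) (he : e ∈ Mod D R w) : b * e * b⁻¹ * e⁻¹ = 1 ∨ b * e * b⁻¹ * e⁻¹ = x := by
  have hxx : x * x = 1 := WW_sq (f.D_WW hx)
  have hOR : o2 R ≤ R := f.OT.trans f.TR
  let K : Subgroup G :=
    { carrier := {e | e ∈ WW ε ∧ ∀ b ∈ o2 R, b * e * b⁻¹ * e⁻¹ = 1 ∨ b * e * b⁻¹ * e⁻¹ = x}
      one_mem' := ⟨one_mem _, fun b _ => Or.inl (by group)⟩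
      mul_mem' := by
        rintro e e' ⟨he, h2⟩ ⟨he', h3⟩
        refine ⟨mul_mem he he', fun b hb => ?_⟩
        have h4 : b * e' * b⁻¹ * e'⁻¹ ∈ WW ε :=
          mul_mem (WW_conj (f.R_cz (hOR hb)) he') (inv_mem he')
        have h5 : b * (e * e') * b⁻¹ * (e * e')⁻¹ = (b * e * b⁻¹ * e⁻¹) * (b * e' * b⁻¹ * e'⁻¹) := by
          have h6 : b * (e * e') * b⁻¹ * (e * e')⁻¹ = b * e * b⁻¹ * ((b * e' * b⁻¹ * e'⁻¹) * e⁻¹) := by group
          rw [h6, WW_comm h4 (inv_mem he)]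
          group
        rw [h5]
        rcases h2 b hb with h6 | h6 <;> rcases h3 b hb with h7 | h7 <;> rw [h6, h7]
        · left; rw [one_mul]
        · right; rw [one_mul]
        · right; rw [mul_one]
        · left; exact hxx
      inv_mem' := by
        rintro e ⟨he, h2⟩
        refine ⟨inv_mem he, fun b hb => ?_⟩
        have hei : e⁻¹ = e := inv_eq_of_mul_eq_one_left (WW_sq he)
        rw [hei]
        exact h2 b hb }
  have h1 : Mod D R w ≤ K := by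
    refine Mod_le (fun d hd => ⟨f.D_WW hd, fun b hb => Or.inl ?_⟩) fun r hr => ?_
    · rw [f.conj_D (hOR hb) hd, mul_inv_cancel]
    · refine ⟨WW_conj (f.R_cz hr) hw, fun b hb => ?_⟩
      have hb' : r⁻¹ * b * r⁻¹⁻¹ ∈ o2 R :=
        (mem_normalizer_iff.1 (MinSimple.VModule.le_normalizer_o2 R (inv_mem hr)) b).1 hb
      have e1 : b * (r * w * r⁻¹) * b⁻¹ * (r * w * r⁻¹)⁻¹ =
          r * ((r⁻¹ * b * r⁻¹⁻¹) * w * (r⁻¹ * b * r⁻¹⁻¹)⁻¹ * w⁻¹) * r⁻¹ := by group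
      rw [e1]
      rcases hc _ (f.OT hb') with h2 | h2
      · left; rw [h2]; group
      · right; rw [h2, f.conj_D hr hx]
  exact (h1 he).2 b hb

/-- An element of `T` which centralises a section `M / D` with `V ∩ M ≰ D` lies in `O₂(R)`. -/
theorem mem_O {M : Subgroup G} (hM : ∀ r ∈ R, ∀ e ∈ M, r * e * r⁻¹ ∈ M) {w : G} (hwM : w ∈ M)
    (hw : w ∈ zl (S : Subgroup G) P) (hwD : w ∉ D) {b : G} (hb : b ∈ T)
    (hc : ∀ e ∈ M, b * e * b⁻¹ * e⁻¹ ∈ D) : b ∈ o2 R := by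
  let N : Subgroup G :=
    { carrier := {r | r ∈ R ∧ ∀ e ∈ M, r * e * r⁻¹ * e⁻¹ ∈ D}
      one_mem' := ⟨one_mem _, fun e _ => by
        have : (1 : G) * e * 1⁻¹ * e⁻¹ = 1 := by group
        rw [this]; exact one_mem _⟩
      mul_mem' := by
        rintro r s ⟨hr, h2⟩ ⟨hs, h3⟩
        refine ⟨mul_mem hr hs, fun e he => ?_⟩
        have h4 : (r * s) * e * (r * s)⁻¹ * e⁻¹ = r * (s * e * s⁻¹ * e⁻¹) * r⁻¹ * (r * e * r⁻¹ * e⁻¹) := by group
        rw [h4, f.conj_D hr (h3 e he)]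
        exact mul_mem (h3 e he) (h2 e he)
      inv_mem' := by
        rintro r ⟨hr, h2⟩
        refine ⟨inv_mem hr, fun e he => ?_⟩
        have h3 : r⁻¹ * e * r⁻¹⁻¹ ∈ M := hM _ (inv_mem hr) e he
        have h4 := h2 _ h3
        have h5 : r * (r⁻¹ * e * r⁻¹⁻¹) * r⁻¹ * (r⁻¹ * e * r⁻¹⁻¹)⁻¹ = (r⁻¹ * e * r⁻¹⁻¹ * e⁻¹)⁻¹ := by group
        rw [h5] at h4
        have := inv_mem h4
        rwa [inv_inv] at this }
  have hNR : N ≤ R := fun r hr => hr.1
  have hNn : R ≤ normalizer (N : Set G) := by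
    intro r hr
    refine mem_normalizer_of_cj_le ?_
    rintro _ ⟨s, hs, rfl⟩
    change r * s * r⁻¹ ∈ N
    refine ⟨R.mul_mem (R.mul_mem hr hs.1) (R.inv_mem hr), fun e he => ?_⟩
    have h3 : r⁻¹ * e * r⁻¹⁻¹ ∈ M := hM _ (inv_mem hr) e he
    have h4 := hs.2 _ h3
    have h5 : r * s * r⁻¹ * e * (r * s * r⁻¹)⁻¹ * e⁻¹ =
        r * (s * (r⁻¹ * e * r⁻¹⁻¹) * s⁻¹ * (r⁻¹ * e * r⁻¹⁻¹)⁻¹) * r⁻¹ := by group
    rw [h5, f.conj_D hr h4]
    exact h4
  have hNM : N ≤ M₀ := fun r hr => f.mem_M₀ hr.1 hw hwD (f.D_le (hr.2 w hwM))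
  exact f.of_le hNR hNn hNM ⟨hb, f.TR hb, hc⟩

/-- `N_G(V)` acts on `V` by permutations. -/
theorem acts_of {g : G} (hg : g ∈ normalizer (zl (S : Subgroup G) P : Set G)) :
    ∃ σ : Equiv.Perm (Fin (2 ^ m + 1)), Acts ε g σ :=
  (NSix.Norm.evenSet' f.h.hm S f.h.ev f.h.SP f.h.fix0).perm g hg

/-- `C_{N_G(V)}(D)` preserves the pairs in `D`. -/
theorem perm_of {g : G} (hg : g ∈ centralizer (D : Set G)) {σ : Equiv.Perm (Fin (2 ^ m + 1))} (hσ : Acts ε g σ)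
    {i i' : Fin (2 ^ m + 1)} (hii : i ≠ i') (hi : rr ε i i' ∈ D) : σ i = i ∨ σ i = i' :=
  NSix.CaseJ.Fus.pair_of_cent f.h hii hσ (mem_centralizer_iff.1 hg _ hi).symm

/-- `[zz i, t] ∈ {1, rr i i'}` for `t ∈ T`. -/
theorem comm_zz {i i' : Fin (2 ^ m + 1)} (hii : i ≠ i') (hi : rr ε i i' ∈ D) {t : G} (ht : t ∈ T) :
    t * zz ε i * t⁻¹ * (zz ε i)⁻¹ = 1 ∨ t * zz ε i * t⁻¹ * (zz ε i)⁻¹ = rr ε i i' := by
  obtain ⟨σ, hσ⟩ := f.acts_of (f.T_le ht)
  have h1 := zz_conj hσ i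
  rw [h1, zz_inv f.h.ev]
  rcases f.perm_of (f.syl.1 ht) hσ hii hi with h2 | h2
  · left; rw [h2, zz_sq f.h.ev]
  · right; rw [h2]; exact zz_comm f.h.ev _ _

end Fr

end Cfsg.Agent.Omega.NO3S.SN.TwoP

end

section


/-!
# TWO PAIRS for every odd `n = 2^m + 1 ≥ 5`: (N1), (N2), (N2+) over `HypU`

`U = ⟨V^(C_G(z))⟩` (any elementary abelian `U`, `V ≤ U ≤ S`, normalised by `C_G(z)`); `z = z_0` is not conjugate to a
pair.  (For `n ≥ 9` `U = Ω₁(Z(O₂(C_G(z))))`, see `SN/TwoP`.)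

* `jjQ_le` **(N1)** : `N_G(J(O₂(P))) ≤ N_G(V)`;
* `mem_of_Q_le` **(N2)**, `mem_of_jjQ` **(N2+)** : `g ∈ C_G(z)`, `J(O₂(P)) ≤ N_G(V^g)` imply `V^g = V`;
* `two_le` : the 2-subgroups of `C_G(z)` over `J(O₂(P))` normalise `V`.
-/

set_option autoImplicit false
set_option linter.unusedSectionVars false

namespace Cfsg.Agent.Omega.NO3S.SN.TwoQ

open Subgroup Cfsg Cfsg.Agent.PLocal.ThompsonJ Cfsg.Agent.ZN Cfsg.Agent.ZN.ChoiceBase
open Cfsg.Agent.ZN.ChoiceSit Cfsg.Agent.PLocal.ElemAbSup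
open Cfsg.Agent.Omega.MinPar
open Cfsg.Agent.Omega.S5.Def Cfsg.Agent.Omega.S5.Syl Cfsg.Agent.Omega.S5.Pair
open Cfsg.Agent.Omega.NSix.Base Cfsg.Agent.Omega.NSix.Basic
open Cfsg.Agent.Omega.SQ1.Bau (mem_AA_of_comm elem_comm elem_sq mem_sup_comm card_sup_comm)
open Cfsg.Agent.Omega.SQ1 (Bau.In.zj_elem Bau.In.zj_le)
open Cfsg.Agent.Omega.NSix.CaseJ.Base Cfsg.Agent.Omega.NSix.CaseJ.Exact
open Cfsg.Agent.Omega.NSix.CaseJ.LemQ
open Cfsg.Agent.Omega.TV (GSys)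
open Cfsg.Agent.Omega.NSix.TvGroup (chain_of eq_of_tv)
open Cfsg.Agent.Omega.NSix.JNot (zc_iff zz_zero_mem closure_norm)
open Cfsg.Agent.Omega.NO3S.SN.J.N1 (mem_of_fixed jj_zj_mem)
open Cfsg.Agent.Omega.NO3S.SN.TwoP (zero_ne_last card_le_AA side_norm sylQ two_cosets Q_le_cz cz_of_acts jjQ_conj)

universe u

variable {G : Type u} [Group G] [Finite G] {S : Sylow 2 G} {P : Subgroup G} {m : ℕ}
  {ε : (Fin (2 ^ m + 1) → ZMod 2) → G} {U : Subgroup G}

/-- `U` is elementary abelian, `V ≤ U ≤ S`, normalised by `C_G(z)`; `z` is not conjugate to a pair. -/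
structure HypU (S : Sylow 2 G) (P : Subgroup G) {m : ℕ} (ε : (Fin (2 ^ m + 1) → ZMod 2) → G)
    (U : Subgroup G) : Prop where
  VU : zl (S : Subgroup G) P ≤ U
  el : IsElementaryAbelian 2 U
  nU : ∀ g ∈ centralizer ({zz ε 0} : Set G), ∀ u ∈ U, g * u * g⁻¹ ∈ U
  US : U ≤ (S : Subgroup G)
  light : ∀ i j, i ≠ j → ∀ c : G, c * zz ε 0 * c⁻¹ ≠ rr ε i j

namespace HypU

variable (hU : HypU S P ε U)
include hU

theorem conj {g w : G} (hg : g ∈ centralizer ({zz ε 0} : Set G)) (hw : w ∈ U) : g * w * g⁻¹ ∈ U := hU.nU g hg w hw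

theorem comm {x y : G} (hx : x ∈ U) (hy : y ∈ U) : x * y = y * x := elem_comm hU.el x hx y hy

theorem sq {x : G} (hx : x ∈ U) : x * x = 1 := by
  have := elem_sq hU.el x hx
  rwa [pow_two] at this

theorem le_Q (h : NSix.CaseJ.Base.Hyp S P ε) : U ≤ o2 P := fun x hx =>
  h.cS (hU.US hx) fun v hv => hU.comm hx (hU.VU hv)

theorem zz_ne {i j : Fin (2 ^ m + 1)} (hij : i ≠ j) (g : G) : zz ε 0 ≠ g * rr ε i j * g⁻¹ := by
  intro h0
  refine hU.light i j hij g⁻¹ ?_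
  rw [h0]; group

end HypU

/-- **The transvection argument.** -/
theorem le_of_inv (h : NSix.CaseJ.Base.Hyp S P ε) (hU : HypU S P ε U) {X : Subgroup G} (hPX : P ≤ X) {Y : Subgroup G}
    (hY : IsElementaryAbelian 2 Y) (hYS : Y ≤ (S : Subgroup G)) (hVY : zl (S : Subgroup G) P ≤ Y)
    (hXY : ∀ c ∈ X, ∀ y ∈ Y, c * y * c⁻¹ ∈ Y) {i j : Fin (2 ^ m + 1)} (hij : i ≠ j)
    {A : Subgroup G} (hA : Ex P ε i j A)
    (hc : ∀ a ∈ A ⊓ centralizer (zl (S : Subgroup G) P : Set G), ∀ y ∈ Y, a * y = y * a) :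
    X ≤ normalizer (zl (S : Subgroup G) P : Set G) := by
  obtain ⟨V, hV⟩ : ∃ V, V = zl (S : Subgroup G) P := ⟨_, rfl⟩
  have hm1 : 1 ≤ m := by have := h.hm; omega
  set N := closure {x | ∃ c ∈ X, x = c * zz ε 0 * c⁻¹} with hN
  have hNY : N ≤ Y := by
    rw [hN, closure_le]
    rintro _ ⟨c, hcX, rfl⟩
    exact hXY c hcX _ (hVY (zz_mem h.ev 0))
  have hNS : N ≤ (S : Subgroup G) := hNY.trans hYS
  have hNsq : ∀ x ∈ N, x * x = 1 := fun x hx => by
    have := elem_sq hY x (hNY hx)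
    rwa [pow_two] at this
  have hnor : ∀ c ∈ X, ∀ n ∈ N, c * n * c⁻¹ ∈ N := fun c hcX n hn =>
    (mem_normalizer_iff.1 (closure_norm X (zz ε 0) hcX) n).1 hn
  have hSX : (S : Subgroup G) ≤ X := h.SP.trans hPX
  have hzz : ∀ k, zz ε k ∈ N := by
    intro k
    obtain ⟨p, hp, hpσ⟩ := h.ev.full (Equiv.swap 0 k)
    have h1 := zz_conj hpσ 0
    rw [Equiv.swap_apply_left] at h1
    exact subset_closure ⟨p, hPX hp, h1.symm⟩
  have hVN : zl (S : Subgroup G) P ≤ N := NSix.JNot.V_le_closure h.ev hzz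
  have hrN : rr ε i j ∈ N := hVN (rr_mem h.ev i j)
  have hgenr : N ≤ closure {x | ∃ c ∈ X, x = c * rr ε i j * c⁻¹} := by
    rw [hN, closure_le]
    rintro _ ⟨c, hcX, rfl⟩
    have h1 : zz ε 0 ∈ closure {x | ∃ c ∈ X, x = c * rr ε i j * c⁻¹} := by
      refine zz_zero_mem h.ev hm1 fun k hk => ?_
      obtain ⟨σ, h1, h2, -⟩ := exists_perm hij hk
      obtain ⟨p, hp, hpσ⟩ := h.ev.full σ
      refine subset_closure ⟨p, hPX hp, ?_⟩
      rw [rr_conj hpσ, h1, h2]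
    exact (mem_normalizer_iff.1 (closure_norm X (rr ε i j) hcX) _).1 h1
  have hzS : zz ε 0 ∈ zc (S : Subgroup G) := (zc_iff h.hG hm1 h.hP h.ev h.fix0).2 (Or.inr rfl)
  have gs : GSys X N (rr ε i j) :=
    { sq := hNsq
      nor := hnor
      mem := hrN
      ne := rr_ne_one h.ev (by have := h.five; omega) hij
      gen := hgenr
      chain := chain_of hNsq hnor (hzz 0) hN.le hSX S.isPGroup'
        (MinSimple.Basic.not_dvd_relIndex S hSX) (fun s hs => by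
          rw [(MinSimple.VModule.mem_zc.1 hzS).2.1 s hs]; group) }
  obtain ⟨t, ht, ht'⟩ := hA.ex
  have htU : ∀ u ∈ N, t * u * t⁻¹ = u ∨ t * u * t⁻¹ = u * rr ε i j := fun u hu =>
    hA.transv h hij hY hVY hc ht (hNY hu)
  have hNV : N ≤ zl (S : Subgroup G) P := by
    refine eq_of_tv ?_ (by have := h.five; omega) h.ev hPX hVN hij gs (hPX (hA.AP ht)) htU ht' ?_ S.isPGroup'
      h.SP ?_
    · exact Even.add_one (Nat.even_pow.mpr ⟨even_two, by omega⟩)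
    · rintro ⟨c, -, h1⟩
      exact hU.zz_ne hij c h1
    · intro u hu hs
      exact mem_of_fixed S P (hNS hu) (hNsq u hu) hs
  have hNV' : N = zl (S : Subgroup G) P := le_antisymm hNV hVN
  rw [← hNV']
  exact closure_norm X (zz ε 0)

/-- **(N1)** `N_G(J(O₂(P))) ≤ N_G(V)`. -/
theorem jjQ_le (h : NSix.CaseJ.Base.Hyp S P ε) (hU : HypU S P ε U) :
    normalizer ((jj (o2 P) : Subgroup G) : Set G) ≤ normalizer (zl (S : Subgroup G) P : Set G) := by
  have hPX : P ≤ normalizer ((jj (o2 P) : Subgroup G) : Set G) :=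
    (MinSimple.VModule.le_normalizer_o2 P).trans (normalizer_le_of_cj (F := jj) jj_cj (o2 P))
  have h0 : (0 : Fin (2 ^ m + 1)) ≠ Fin.last (2 ^ m) := by
    intro h0
    have h1 : (0 : ℕ) = 2 ^ m := congrArg Fin.val h0
    have h2 : 0 < 2 ^ m := by positivity
    omega
  obtain ⟨A, hA⟩ := exists_ex h h0
  refine le_of_inv h hU hPX (Bau.In.zj_elem (o2 P)) ?_ (V_le_zjQ h) (fun c hc y hy => jj_zj_mem hc hy)
    h0 hA ?_
  · exact (Bau.In.zj_le (o2 P)).trans h.QS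
  · intro a ha y hy
    exact (ChoiceBase.mem_zj.1 hy).2.2 a ((hA.A0_le h h0).1 ha)

/-- **The exact offenders in `C_P(z)` centralise `x`**, if `[u, J(Q)] = ⟨x⟩`. -/
theorem ex_comm (h : NSix.CaseJ.Base.Hyp S P ε) (hU : HypU S P ε U) {u x : G} (hu : u ∈ U) (hxW : x ∈ U)
    (hx : x ∈ zj (o2 P)) (hc : ∀ q ∈ jj (o2 P), q * u * q⁻¹ = u ∨ q * u * q⁻¹ = x * u)
    (he : ∃ q ∈ jj (o2 P), q * u * q⁻¹ ≠ u) {i j : Fin (2 ^ m + 1)} (hi : i ≠ 0) (hj : j ≠ 0) (hij : i ≠ j)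
    {A : Subgroup G} (hA : Ex P ε i j A) {c : G} (hcA : c ∈ A) : c * x * c⁻¹ = x := by
  obtain ⟨V, hV⟩ : ∃ V, V = zl (S : Subgroup G) P := ⟨_, rfl⟩
  have hVe : IsElementaryAbelian 2 V := hV ▸ V_elem h
  have hVW : V ≤ U := hV ▸ hU.VU
  have hA0 := (hA.A0_le h hij).1
  have hxJ := ChoiceBase.mem_zj.1 hx
  obtain ⟨q₀, hq₀, hq₀u⟩ := he
  have hq₀x := (hc q₀ hq₀).resolve_left hq₀u
  have hx1 : x ≠ 1 := fun e => hq₀u (by rw [hq₀x, e, one_mul])
  rcases hA.act c hcA with hc1 | hc1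
  · -- `c ∈ A₀`
    have h1 : c ∈ A ⊓ centralizer (zl (S : Subgroup G) P : Set G) := (hA.mem_A0 h).2 ⟨hcA, hc1⟩
    rw [hxJ.2.2 c (hA0 h1), mul_inv_cancel_right]
  have hcz : c ∈ centralizer ({zz ε 0} : Set G) := cz_of_acts hc1 (Equiv.swap_apply_of_ne_of_ne hi.symm hj.symm)
  have hcP := hA.AP hcA
  obtain ⟨u', hu'⟩ : ∃ u', u' = c * u * c⁻¹ := ⟨_, rfl⟩
  obtain ⟨x', hx'⟩ : ∃ x', x' = c * x * c⁻¹ := ⟨_, rfl⟩
  rw [← hx']
  have hu'W : u' ∈ U := hu' ▸ hU.conj hcz hu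
  have hx'W : x' ∈ U := hx' ▸ hU.conj hcz hxW
  have hx'1 : x' ≠ 1 := fun e => hx1 (conj_eq_one_iff.1 (hx' ▸ e))
  by_cases hcase : ∀ b ∈ A ⊓ centralizer (zl (S : Subgroup G) P : Set G), b * u * b⁻¹ = u
  · -- `A₀` centralises `u`
    have hbu' : ∀ b ∈ A ⊓ centralizer (zl (S : Subgroup G) P : Set G), b * u' * b⁻¹ = u' := by
      intro b hb
      have e : b * c = c * b := elem_comm hA.elem b hb.1 c hcA
      calc b * u' * b⁻¹ = (b * c) * u * (b * c)⁻¹ := by rw [hu']; group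
        _ = c * (b * u * b⁻¹) * c⁻¹ := by rw [e]; group
        _ = u' := by rw [hcase b hb, hu']
    set X := V ⊔ closure {u, u'} with hX
    have hXW : X ≤ U := sup_le hVW (by
      rw [closure_le]
      rintro y (rfl | rfl)
      · exact hu
      · exact hu'W)
    have hXe : IsElementaryAbelian 2 X := isElementaryAbelian_mono hU.el hXW
    have hXc : ∀ b ∈ A ⊓ centralizer (zl (S : Subgroup G) P : Set G), ∀ y ∈ X, b * y = y * b := by
      intro b hb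
      have h1 : X ≤ centralizer ({b} : Set G) := by
        refine sup_le (fun v hv => ?_) ?_
        · rw [mem_centralizer_singleton_iff]
          exact mem_centralizer_iff.1 hb.2 v (hV ▸ hv)
        · rw [closure_le]
          rintro y (rfl | rfl)
          · exact mem_centralizer_singleton_iff.2 (comm_of_conj (hcase b hb)).symm
          · exact mem_centralizer_singleton_iff.2 (comm_of_conj (hbu' b hb)).symm
      exact fun y hy => (mem_centralizer_singleton_iff.1 (h1 hy)).symm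
    have h1 := hA.transv h hij hXe (hV ▸ le_sup_left) hXc hcA
      (mem_sup_right (subset_closure (Set.mem_insert u {u'})))
    rw [← hu'] at h1
    obtain ⟨r, hr, hru⟩ : ∃ r ∈ V, u' = u * r := by
      rcases h1 with h1 | h1
      · exact ⟨1, one_mem _, by rw [mul_one]; exact h1⟩
      · exact ⟨rr ε i j, hV ▸ rr_mem h.ev i j, h1⟩
    have hq' := jjQ_conj hcP hq₀
    have e1 : (c * q₀ * c⁻¹) * u' * (c * q₀ * c⁻¹)⁻¹ = x' * u' := by
      calc (c * q₀ * c⁻¹) * u' * (c * q₀ * c⁻¹)⁻¹ = c * (q₀ * u * q₀⁻¹) * c⁻¹ := by rw [hu']; group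
        _ = x' * u' := by rw [hq₀x, hx', hu']; group
    have e2 : (c * q₀ * c⁻¹) * r = r * (c * q₀ * c⁻¹) := h.VcQ (ChoiceBase.jj_le _ hq') (hV ▸ hr)
    have e3 : (c * q₀ * c⁻¹) * u' * (c * q₀ * c⁻¹)⁻¹ = ((c * q₀ * c⁻¹) * u * (c * q₀ * c⁻¹)⁻¹) * r := by
      calc (c * q₀ * c⁻¹) * u' * (c * q₀ * c⁻¹)⁻¹ = (c * q₀ * c⁻¹) * u * r * (c * q₀ * c⁻¹)⁻¹ := by
            rw [hru]; group
        _ = (c * q₀ * c⁻¹) * u * ((c * q₀ * c⁻¹)⁻¹ * ((c * q₀ * c⁻¹) * r)) * (c * q₀ * c⁻¹)⁻¹ := by group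
        _ = _ := by rw [e2]; group
    rw [e1, hru, ← mul_assoc] at e3
    have e4 := mul_right_cancel e3
    rcases hc _ hq' with h2 | h2
    · rw [h2] at e4
      exact absurd (mul_eq_right.1 e4) hx'1
    · rw [h2] at e4
      exact mul_right_cancel e4
  · -- `b ∈ A₀` moves `u`
    push Not at hcase
    obtain ⟨b, hb, hbu⟩ := hcase
    have hbx := (hc b (hA0 hb)).resolve_left hbu
    have hbc : b * c = c * b := elem_comm hA.elem b hb.1 c hcA
    have hbu' : b * u' * b⁻¹ = x' * u' := by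
      calc b * u' * b⁻¹ = (b * c) * u * (b * c)⁻¹ := by rw [hu']; group
        _ = c * (b * u * b⁻¹) * c⁻¹ := by rw [hbc]; group
        _ = x' * u' := by rw [hbx, hx', hu']; group
    -- `E = A₀ V`
    set A0 := A ⊓ centralizer (zl (S : Subgroup G) P : Set G) with hA0d
    have hcm : ∀ a ∈ A0, ∀ v ∈ V, a * v = v * a := fun a ha v hv =>
      (mem_centralizer_iff.1 ha.2 v (hV ▸ hv)).symm
    have hEe := sup_elem (isElementaryAbelian_mono hA.elem inf_le_left) hVe hcm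
    have hEmax : ∀ B : Subgroup G, IsElementaryAbelian 2 B → Nat.card B ≤ Nat.card ↥(A0 ⊔ V : Subgroup G) := by
      intro B hB
      refine (hA.card B hB).trans ?_
      have h1 := card_sup_comm hcm
      have h2 : 2 * Nat.card ↥(A0 ⊓ V) ≤ Nat.card V := by
        refine two_mul_card_le inf_le_right fun hle => ?_
        have h3 := (hle (show zz ε i ∈ V from hV ▸ zz_mem h.ev i)).1.1
        have h4 := (h.ev.fixes_iff h.three hc1 i).1 (elem_comm hA.elem c hcA _ h3)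
        rw [Equiv.swap_apply_left] at h4
        exact hij h4.symm
      have hp : 0 < Nat.card ↥(A0 ⊓ V) := Nat.card_pos
      have h4 : Nat.card A * Nat.card ↥(A0 ⊓ V) ≤ Nat.card ↥(A0 ⊔ V : Subgroup G) * Nat.card ↥(A0 ⊓ V) := by
        rw [h1, hA.card_A0 h hij]
        calc 2 * Nat.card A0 * Nat.card ↥(A0 ⊓ V) = Nat.card A0 * (2 * Nat.card ↥(A0 ⊓ V)) := by ring
          _ ≤ Nat.card A0 * Nat.card V := Nat.mul_le_mul_left _ h2
      exact Nat.le_of_mul_le_mul_right h4 hp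
    set X := closure ({u, u'} : Set G) with hX
    have hXW : X ≤ U := by
      rw [hX, closure_le]
      rintro y (rfl | rfl)
      · exact hu
      · exact hu'W
    have hXe : IsElementaryAbelian 2 X := isElementaryAbelian_mono hU.el hXW
    have h1 := count hEe hXe hEmax
    -- `|E| ≤ 2 |C_E(X)|`
    have hQc : ∀ e ∈ A0 ⊔ V, ∃ a ∈ A0, ∃ v ∈ V, e = a * v := by
      intro e he
      obtain ⟨a, ha, v, hv, rfl⟩ := mem_sup_comm hcm he
      exact ⟨a, ha, v, hv, rfl⟩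
    have hvu : ∀ v ∈ V, ∀ y ∈ U, v * y * v⁻¹ = y := fun v hv y hy => by
      rw [hU.comm (hVW hv) hy, mul_inv_cancel_right]
    have hfix : ∀ a ∈ A0, a * u * a⁻¹ = u → ∀ v ∈ V, a * v ∈ (A0 ⊔ V) ⊓ centralizer (X : Set G) := by
      intro a ha hau v hv
      refine ⟨mul_mem (mem_sup_left ha) (mem_sup_right hv), ?_⟩
      have e : a * c = c * a := elem_comm hA.elem a ha.1 c hcA
      have hau' : a * u' * a⁻¹ = u' := by
        calc a * u' * a⁻¹ = (a * c) * u * (a * c)⁻¹ := by rw [hu']; group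
          _ = c * (a * u * a⁻¹) * c⁻¹ := by rw [e]; group
          _ = u' := by rw [hau, hu']
      have h2 : X ≤ centralizer ({a * v} : Set G) := by
        rw [hX, closure_le]
        rintro y (rfl | rfl)
        · refine mem_centralizer_singleton_iff.2 (comm_of_conj ?_).symm
          calc a * v * y * (a * v)⁻¹ = a * (v * y * v⁻¹) * a⁻¹ := by group
            _ = y := by rw [hvu v hv y hu, hau]
        · refine mem_centralizer_singleton_iff.2 (comm_of_conj ?_).symm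
          calc a * v * y * (a * v)⁻¹ = a * (v * y * v⁻¹) * a⁻¹ := by group
            _ = y := by rw [hvu v hv y hu'W, hau']
      exact mem_centralizer_iff.2 fun y hy => mem_centralizer_singleton_iff.1 (h2 hy)
    have h2 : Nat.card ↥(A0 ⊔ V : Subgroup G) ≤ 2 * Nat.card ↥((A0 ⊔ V) ⊓ centralizer (X : Set G)) := by
      refine card_le_two (c := b) fun y hy hyC => ?_
      obtain ⟨a, ha, v, hv, rfl⟩ := hQc y hy
      have hau : a * u * a⁻¹ ≠ u := fun e => hyC (hfix a ha e v hv)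
      have hax := (hc a (hA0 ha)).resolve_left hau
      have e1 : b⁻¹ * (a * v) = (b⁻¹ * a) * v := by group
      rw [e1]
      refine hfix _ (mul_mem (inv_mem hb) ha) ?_ v hv
      calc b⁻¹ * a * u * (b⁻¹ * a)⁻¹ = b⁻¹ * (a * u * a⁻¹) * b := by group
        _ = b⁻¹ * (b * u * b⁻¹) * b := by rw [hax, hbx]
        _ = u := by group
    have h3 : Nat.card X ≤ 2 * Nat.card ↥(X ⊓ centralizer ((A0 ⊔ V : Subgroup G) : Set G)) := by
      have hp : 0 < Nat.card ↥((A0 ⊔ V) ⊓ centralizer (X : Set G)) := Nat.card_pos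
      have h4 : Nat.card ↥((A0 ⊔ V) ⊓ centralizer (X : Set G)) * Nat.card X ≤
          Nat.card ↥((A0 ⊔ V) ⊓ centralizer (X : Set G)) *
            (2 * Nat.card ↥(X ⊓ centralizer ((A0 ⊔ V : Subgroup G) : Set G))) := by
        calc _ = Nat.card X * Nat.card ↥((A0 ⊔ V) ⊓ centralizer (X : Set G)) := mul_comm _ _
          _ ≤ Nat.card ↥(A0 ⊔ V : Subgroup G) * Nat.card ↥(X ⊓ centralizer ((A0 ⊔ V : Subgroup G) : Set G)) := h1
          _ ≤ 2 * Nat.card ↥((A0 ⊔ V) ⊓ centralizer (X : Set G)) *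
              Nat.card ↥(X ⊓ centralizer ((A0 ⊔ V : Subgroup G) : Set G)) := Nat.mul_le_mul_right _ h2
          _ = _ := by ring
      exact Nat.le_of_mul_le_mul_left h4 hp
    have hnot : ∀ y, b * y * b⁻¹ ≠ y → y ∉ X ⊓ centralizer ((A0 ⊔ V : Subgroup G) : Set G) := by
      intro y hy hyC
      apply hy
      rw [mem_centralizer_iff.1 hyC.2 b (mem_sup_left hb), mul_inv_cancel_right]
    have h5 := two_cosets inf_le_left h3 (u := u) (v := u') (subset_closure (Set.mem_insert u {u'}))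
      (hnot u hbu) (subset_closure (Set.mem_insert_of_mem u rfl))
      (hnot u' (by rw [hbu']; exact fun e => hx'1 (mul_eq_right.1 e)))
    have h6 := mem_centralizer_iff.1 h5.2 b (mem_sup_left hb)
    have h7 : b * (u⁻¹ * u') * b⁻¹ = u⁻¹ * u' := by rw [h6, mul_inv_cancel_right]
    have h8 : b * (u⁻¹ * u') * b⁻¹ = (b * u * b⁻¹)⁻¹ * (b * u' * b⁻¹) := by group
    rw [h8, hbx, hbu'] at h7
    have h9 : u * x' = x' * u := hU.comm hu hx'W
    have h10 : x⁻¹ * x' = 1 := by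
      have e1 : (x * u)⁻¹ * (x' * u') = u⁻¹ * (x⁻¹ * x') * u' := by group
      rw [e1] at h7
      have e2 : u⁻¹ * (x⁻¹ * x') = u⁻¹ := mul_right_cancel h7
      exact mul_eq_left.1 e2
    exact (inv_mul_eq_one.1 h10).symm


/-- Conjugates of `V` centralised by `J(O₂(P))`. -/
theorem mem_of_centralizer (h : NSix.CaseJ.Base.Hyp S P ε) (hU : HypU S P ε U) {g : G}
    (hc : jj (o2 P) ≤ centralizer ((cj g (zl (S : Subgroup G) P) : Subgroup G) : Set G)) :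
    g ∈ normalizer (zl (S : Subgroup G) P : Set G) := by
  obtain ⟨V, hV⟩ : ∃ V, V = zl (S : Subgroup G) P := ⟨_, rfl⟩
  rw [← hV] at hc ⊢
  have hsyl : Syl (o2 P) (centralizer (V : Set G)) := hV ▸ sylQ h
  have hsyl' : Syl (cj g (o2 P)) (centralizer ((cj g V : Subgroup G) : Set G)) := by
    rw [← cj_centralizer]
    refine ⟨cj_mono g hsyl.1, isPGroup_cj g hsyl.2.1, fun R hR hR2 hQR => ?_⟩
    have h1 := hsyl.2.2 (cj g⁻¹ R) (by
      have := cj_mono g⁻¹ hR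
      rwa [cj_inv_cj] at this) (isPGroup_cj g⁻¹ hR2) (by
      have := cj_mono g⁻¹ hQR
      rwa [cj_inv_cj] at this)
    rw [← h1, cj_cj_inv]
  have hJ2 : IsPGroup 2 (jj (o2 P)) := hsyl.2.1.to_le (ChoiceBase.jj_le _)
  obtain ⟨R, hR, hJR⟩ := exists_syl hJ2 hc
  obtain ⟨c, hcc, hcR⟩ := syl_conj hsyl' hR
  have h1 : jj (o2 P) ≤ cj (c * g) (o2 P) := by
    rw [← cj_cj, hcR]
    exact hJR
  have h2 : jj (o2 P) ≤ cj (c * g) (jj (o2 P)) := by
    rw [← jj_cj]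
    conv_lhs => rw [jj_eq]
    refine sSup_le fun A hA => ChoiceBase.le_jj ⟨hA.1, (ChoiceBase.le_jj hA).trans h1, fun B hB _ => ?_⟩
    exact card_le_AA h hA hB
  have h4 : cj (c * g) (jj (o2 P)) = jj (o2 P) :=
    (Subgroup.eq_of_le_of_card_ge h2 (card_cj _ _).le).symm
  have h5 : c * g ∈ normalizer (V : Set G) := hV ▸ jjQ_le h hU (mem_normalizer_iff_cj.2 h4)
  have h6 : cj c (cj g V) = cj g V :=
    cj_eq_of_mem_normalizer (centralizer_le_normalizer _ hcc)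
  rw [cj_cj, cj_eq_of_mem_normalizer h5] at h6
  exact mem_normalizer_iff_cj.2 h6.symm

/-- **(N2+)** a conjugate of `V` under `C_G(z)` which is normalised by `J(O₂(P))` is `V`. -/
theorem mem_of_jjQ (h : NSix.CaseJ.Base.Hyp S P ε) (hU : HypU S P ε U) {g : G}
    (hg : g ∈ centralizer ({zz ε 0} : Set G))
    (hJ : jj (o2 P) ≤ normalizer ((cj g (zl (S : Subgroup G) P) : Subgroup G) : Set G)) :
    g ∈ normalizer (zl (S : Subgroup G) P : Set G) := by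
  classical
  have hM := NSix.Norm.evenSet' h.hm S h.ev h.SP h.fix0
  have h3 := h.three
  have hn : ∀ q ∈ jj (o2 P), g⁻¹ * q * g ∈ normalizer (zl (S : Subgroup G) P : Set G) := by
    intro q hq
    refine mem_normalizer_of_cj_le ?_
    rintro _ ⟨v, hv, rfl⟩
    change g⁻¹ * q * g * v * (g⁻¹ * q * g)⁻¹ ∈ _
    have h3 : g * v * g⁻¹ ∈ cj g (zl (S : Subgroup G) P) := ⟨v, hv, rfl⟩
    have h4 := (mem_normalizer_iff.1 (hJ hq) _).1 h3
    rw [mem_cj] at h4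
    have e : g⁻¹ * (q * (g * v * g⁻¹) * q⁻¹) * g = g⁻¹ * q * g * v * (g⁻¹ * q * g)⁻¹ := by group
    rwa [e] at h4
  let c : jj (o2 P) →* normalizer (zl (S : Subgroup G) P : Set G) :=
    { toFun := fun q => ⟨g⁻¹ * q * g, hn q q.2⟩
      map_one' := Subtype.ext (by change g⁻¹ * 1 * g = 1; group)
      map_mul' := fun a b => Subtype.ext (by
        change g⁻¹ * (a * b) * g = g⁻¹ * a * g * (g⁻¹ * b * g); group) }
  let f : jj (o2 P) →* Equiv.Perm (Fin (2 ^ m + 1)) := (hM.hom h3).comp c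
  have hacts : ∀ q : jj (o2 P), Acts ε (g⁻¹ * (q : G) * g) (f q) := fun q => hM.acts_hom h3 (c q)
  have hfeq : ∀ (q : jj (o2 P)) (σ : Equiv.Perm (Fin (2 ^ m + 1))), Acts ε (g⁻¹ * (q : G) * g) σ → f q = σ :=
    fun q σ hσ => h.ev.acts_unique h3 (hacts q) hσ
  have hact : ∀ (q : jj (o2 P)) x, (q : G) * (g * ε x * g⁻¹) * (q : G)⁻¹ = g * ε (x ∘ (f q).symm) * g⁻¹ := by
    intro q x
    have h3 := hacts q x
    rw [← h3]; group
  have hJ2 : IsPGroup 2 (jj (o2 P)) := (sylQ h).2.1.to_le (ChoiceBase.jj_le _)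
  by_cases hf : ∀ q, f q = 1
  · -- `J(Q)` centralises `V^g`
    refine mem_of_centralizer h hU fun q hq => mem_centralizer_iff.2 ?_
    rintro _ ⟨v, hv, rfl⟩
    obtain ⟨x, rfl⟩ := h.ev.surj v hv
    have h4 := hact ⟨q, hq⟩ x
    rw [hf] at h4
    exact (mul_inv_eq_iff_eq_mul.1 h4).symm
  exfalso
  push Not at hf
  -- a transposition
  have htr : ∀ A ∈ AA (o2 P), ∀ a : jj (o2 P), (a : G) ∈ A → ∀ i, f a i ≠ i → f a (f a i) = i ∧
      ∃ b : jj (o2 P), f b = Equiv.swap i (f a i) := by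
    intro A hA a ha i hi
    have hAn : cj g⁻¹ A ≤ normalizer (zl (S : Subgroup G) P : Set G) := by
      rintro _ ⟨b, hb, rfl⟩
      have := hn b (ChoiceBase.le_jj hA hb)
      change g⁻¹ * b * g⁻¹⁻¹ ∈ _
      rwa [inv_inv]
    have hs := side_norm h (isElementaryAbelian_cj g⁻¹ hA.1) (fun C hC => by
      rw [card_cj]; exact card_le_AA h hA hC) hAn
    have e1 : g⁻¹ * (a : G) * g⁻¹⁻¹ = g⁻¹ * (a : G) * g := by rw [inv_inv]
    obtain ⟨τ, h4, h5⟩ := hs (g⁻¹ * (a : G) * g⁻¹⁻¹) ⟨a, ha, rfl⟩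
    rw [e1] at h4
    have h6 := hfeq a τ h4
    subst h6
    obtain ⟨h7, b, hb, h8⟩ := h5 i hi
    refine ⟨h7, ?_⟩
    rw [mem_cj, inv_inv] at hb
    refine ⟨⟨g * b * g⁻¹, ChoiceBase.le_jj hA hb⟩, hfeq _ _ ?_⟩
    have e2 : g⁻¹ * (g * b * g⁻¹) * g = b := by group
    change Acts ε (g⁻¹ * (g * b * g⁻¹) * g) _
    rwa [e2]
  -- two transpositions at the same letter
  have hsame : ∀ i j k, i ≠ j → i ≠ k → (∃ b, f b = Equiv.swap i j) → (∃ b, f b = Equiv.swap i k) → j = k := by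
    rintro i j k hij hik ⟨a, ha⟩ ⟨b, hb⟩
    by_contra hjk
    have h4 := Equiv.Perm.isThreeCycle_swap_mul_swap_same hij hik hjk
    rw [← ha, ← hb, ← map_mul] at h4
    have h5 : IsPGroup 2 f.range := hJ2.of_surjective f.rangeRestrict f.rangeRestrict_surjective
    exact not_threeCycle h5 (w := f (a * b)) ⟨a * b, rfl⟩ h4
  obtain ⟨i, j, hij, hb⟩ : ∃ i j, i ≠ j ∧ ∃ b, f b = Equiv.swap i j := by
    by_contra hcon
    push Not at hcon
    obtain ⟨q, hq⟩ := hf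
    apply hq
    have h4 : (⊤ : Subgroup (jj (o2 P))) ≤ f.ker := by
      have h5 : jj (o2 P) ≤ f.ker.map (jj (o2 P)).subtype := by
        conv_lhs => rw [jj_eq]
        refine sSup_le fun A hA a ha => ⟨⟨a, ChoiceBase.le_jj hA ha⟩, ?_, rfl⟩
        change f _ = 1
        ext i
        by_contra hi
        have hi' : f ⟨a, ChoiceBase.le_jj hA ha⟩ i ≠ i := fun e => hi (by rw [e]; rfl)
        obtain ⟨b, hb⟩ := (htr A hA ⟨a, ChoiceBase.le_jj hA ha⟩ ha i hi').2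
        exact hcon i _ hi'.symm b hb
      intro x _
      obtain ⟨y, hy, hxy⟩ := h5 x.2
      have : y = x := Subtype.ext hxy
      rwa [this] at hy
    exact h4 (mem_top q)
  -- the orbit of `i` is `{i, j}`
  have horb : ∀ q : jj (o2 P), (f q i = i ∨ f q i = j) ∧ (f q j = i ∨ f q j = j) := by
    let K : Subgroup (jj (o2 P)) :=
      { carrier := {q | (f q i = i ∨ f q i = j) ∧ (f q j = i ∨ f q j = j)}
        one_mem' := by rw [Set.mem_ofPred_eq, map_one]; exact ⟨Or.inl rfl, Or.inr rfl⟩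
        mul_mem' := by
          intro a b ha hb
          rw [Set.mem_ofPred_eq, map_mul]
          constructor
          · rcases hb.1 with h4 | h4
            · rw [Equiv.Perm.mul_apply, h4]; exact ha.1
            · rw [Equiv.Perm.mul_apply, h4]; exact ha.2
          · rcases hb.2 with h4 | h4
            · rw [Equiv.Perm.mul_apply, h4]; exact ha.1
            · rw [Equiv.Perm.mul_apply, h4]; exact ha.2
        inv_mem' := by
          intro a ha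
          rw [Set.mem_ofPred_eq, map_inv]
          have e : ∀ x y, (f a) x = y → (f a)⁻¹ y = x := fun x y hxy => by rw [← hxy]; exact (f a).symm_apply_apply x
          rcases ha.1 with h4 | h4 <;> rcases ha.2 with h5 | h5
          · exact absurd ((f a).injective (h4.trans h5.symm)) hij
          · exact ⟨Or.inl (e _ _ h4), Or.inr (e _ _ h5)⟩
          · exact ⟨Or.inr (e _ _ h5), Or.inl (e _ _ h4)⟩
          · exact absurd ((f a).injective (h4.trans h5.symm)) hij }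
    have h5 : jj (o2 P) ≤ K.map (jj (o2 P)).subtype := by
      conv_lhs => rw [jj_eq]
      refine sSup_le fun A hA a ha => ⟨⟨a, ChoiceBase.le_jj hA ha⟩, ?_, rfl⟩
      constructor
      · by_cases h4 : f ⟨a, ChoiceBase.le_jj hA ha⟩ i = i
        · exact Or.inl h4
        · exact Or.inr (hsame i _ _ (Ne.symm h4) hij (htr A hA ⟨a, ChoiceBase.le_jj hA ha⟩ ha i h4).2 hb)
      · by_cases h4 : f ⟨a, ChoiceBase.le_jj hA ha⟩ j = j
        · exact Or.inr h4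
        · refine Or.inl (hsame j _ _ (Ne.symm h4) hij.symm (htr A hA ⟨a, ChoiceBase.le_jj hA ha⟩ ha j h4).2 ?_)
          obtain ⟨b, hb⟩ := hb
          exact ⟨b, by rw [hb, Equiv.swap_comm]⟩
    intro q
    obtain ⟨y, hy, hxy⟩ := h5 q.2
    have : y = q := Subtype.ext hxy
    rw [this] at hy
    exact hy
  obtain ⟨b, hb⟩ := hb
  have hVW := hU.VU
  -- `u`, `x`
  obtain ⟨u, hu⟩ : ∃ u, u = g * zz ε i * g⁻¹ := ⟨_, rfl⟩
  obtain ⟨x, hx⟩ : ∃ x, x = g * rr ε i j * g⁻¹ := ⟨_, rfl⟩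
  have huW : u ∈ U := hu ▸ hU.conj hg (hVW (zz_mem h.ev i))
  have hxW : x ∈ U := hx ▸ hU.conj hg (hVW (rr_mem h.ev i j))
  have hxu : g * zz ε j * g⁻¹ = x * u := by
    have e : rr ε i j * zz ε i = zz ε j := by
      change zz ε i * zz ε j * zz ε i = zz ε j
      rw [zz_comm h.ev i j, mul_assoc, zz_sq h.ev, mul_one]
    rw [hx, hu, ← e]; group
  have hzc : ∀ (q : jj (o2 P)) k, (q : G) * (g * zz ε k * g⁻¹) * (q : G)⁻¹ = g * zz ε (f q k) * g⁻¹ := by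
    intro q k
    have h4 := zz_conj (hacts q) k
    calc (q : G) * (g * zz ε k * g⁻¹) * (q : G)⁻¹ = g * (g⁻¹ * q * g * zz ε k * (g⁻¹ * q * g)⁻¹) * g⁻¹ := by group
      _ = _ := by rw [h4]
  have hc : ∀ q ∈ jj (o2 P), q * u * q⁻¹ = u ∨ q * u * q⁻¹ = x * u := by
    intro q hq
    have h4 := hzc ⟨q, hq⟩ i
    rcases (horb ⟨q, hq⟩).1 with h5 | h5
    · left; rw [h5] at h4; rw [hu]; exact h4
    · right; rw [h5, hxu] at h4; rw [hu]; rw [hu] at h4; exact h4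
  have he : ∃ q ∈ jj (o2 P), q * u * q⁻¹ ≠ u := by
    refine ⟨b, b.2, fun h0 => ?_⟩
    have h4 := hzc b i
    rw [hb, Equiv.swap_apply_left, ← hu, h0, hu] at h4
    exact hij (h.ev.single_inj h3 (mul_left_cancel (mul_right_cancel h4)))
  have hxc : ∀ q ∈ jj (o2 P), q * x = x * q := by
    intro q hq
    have h4 : x = (g * zz ε i * g⁻¹) * (g * zz ε j * g⁻¹) := by
      rw [hx]; change g * (zz ε i * zz ε j) * g⁻¹ = _; group
    have h5 : x = (g * zz ε j * g⁻¹) * (g * zz ε i * g⁻¹) := by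
      rw [hx, rr_symm h.ev]; change g * (zz ε j * zz ε i) * g⁻¹ = _; group
    refine comm_of_conj ?_
    have h6 : q * x * q⁻¹ = (q * (g * zz ε i * g⁻¹) * q⁻¹) * (q * (g * zz ε j * g⁻¹) * q⁻¹) := by
      conv_lhs => rw [h4]
      group
    have h7 := hzc ⟨q, hq⟩ i
    have h8 := hzc ⟨q, hq⟩ j
    rw [h6, h7, h8]
    have h9 : f ⟨q, hq⟩ i ≠ f ⟨q, hq⟩ j := fun e => hij ((f ⟨q, hq⟩).injective e)
    rcases (horb ⟨q, hq⟩).1 with h10 | h10 <;> rcases (horb ⟨q, hq⟩).2 with h11 | h11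
    · exact absurd (h10.trans h11.symm) h9
    · rw [h10, h11]; exact h4.symm
    · rw [h10, h11]; exact h5.symm
    · exact absurd (h10.trans h11.symm) h9
  have hx2 : x * x = 1 := hU.sq hxW
  have hxQ : x ∈ o2 P := hU.le_Q h hxW
  have hxJ : x ∈ zj (o2 P) :=
    ChoiceBase.mem_zj.2 ⟨mem_jj_of_comm hxQ (by rw [pow_two]; exact hx2) hxc, by rw [pow_two]; exact hx2, hxc⟩
  rcases alt h hxJ with h4 | h4
  · -- `x ∈ V`
    obtain ⟨y, hy⟩ := h.ev.surj x h4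
    have h5 : ∀ a b, a ≠ 0 → b ≠ 0 → y a = y b := by
      intro a b ha hb
      by_cases hab : a = b
      · rw [hab]
      obtain ⟨A, hA⟩ := exists_ex h hab
      obtain ⟨c, hcA, hc1⟩ := hA.ex
      have h6 := ex_comm h hU huW hxW hxJ hc he ha hb hab hA hcA
      rw [← hy] at h6
      exact (swap_comm_iff h.ev h3 hab hc1 y).1 (comm_of_conj h6)
    have h01 : ∀ a b : ZMod 2, a = b ∨ a = b + 1 := by decide
    -- `x ∈ {1, z}`
    have h6 : x = 1 ∨ x = zz ε 0 := by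
      have hl := zero_ne_last m
      have h7 : ∀ a, a ≠ 0 → y a = y (Fin.last (2 ^ m)) := fun a ha => h5 a _ ha hl.symm
      rcases h01 (y 0) (y (Fin.last (2 ^ m))) with h8 | h8
      · left
        rw [← hy, h.ev.ker]
        have h9 : ∀ a, y a = y 0 := fun a => by
          by_cases ha : a = 0
          · rw [ha]
          · rw [h7 a ha, h8]
        rcases (by decide : ∀ t : ZMod 2, t = 0 ∨ t = 1) (y 0) with h10 | h10
        · left; funext a; rw [h9, h10]; rfl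
        · right; funext a; rw [h9, h10]; rfl
      · right
        rw [← hy]
        change ε y = ε (Pi.single 0 1)
        rw [h.ev.eq_iff]
        have h9 : ∀ a, y a = (Pi.single 0 1 : Fin (2 ^ m + 1) → ZMod 2) a + y (Fin.last (2 ^ m)) := fun a => by
          by_cases ha : a = 0
          · rw [ha, Pi.single_eq_same, h8, add_comm]
          · rw [h7 a ha, Pi.single_eq_of_ne ha, zero_add]
        rcases (by decide : ∀ t : ZMod 2, t = 0 ∨ t = 1) (y (Fin.last (2 ^ m))) with h10 | h10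
        · left; funext a; rw [h9, h10, add_zero]
        · right; funext a; rw [h9, h10]; rfl
    rcases h6 with h6 | h6
    · rw [hx] at h6
      exact rr_ne_one h.ev h3 hij (conj_eq_one_iff.1 h6)
    · exact hU.zz_ne hij g (by rw [← hx, h6])
  · -- `x^Q = V x`
    obtain ⟨q, hq, hqx⟩ := h4 (zz ε (Fin.last (2 ^ m))) (zz_mem h.ev _)
    have hqz := Q_le_cz h hq
    have hqP := h.QP hq
    set u' := q * u * q⁻¹ with hu'
    have hc' : ∀ r ∈ jj (o2 P), r * u' * r⁻¹ = u' ∨ r * u' * r⁻¹ = (q * x * q⁻¹) * u' := by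
      intro r hr
      have hr' : q⁻¹ * r * q⁻¹⁻¹ ∈ jj (o2 P) := jjQ_conj (inv_mem hqP) hr
      have e : r * u' * r⁻¹ = q * ((q⁻¹ * r * q⁻¹⁻¹) * u * (q⁻¹ * r * q⁻¹⁻¹)⁻¹) * q⁻¹ := by
        rw [hu']; group
      rcases hc _ hr' with h5 | h5
      · left; rw [e, h5]
      · right; rw [e, h5, hu']; group
    have he' : ∃ r ∈ jj (o2 P), r * u' * r⁻¹ ≠ u' := by
      obtain ⟨r, hr, hru⟩ := he
      refine ⟨q * r * q⁻¹, jjQ_conj hqP hr, fun h5 => hru ?_⟩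
      have e : (q * r * q⁻¹) * u' * (q * r * q⁻¹)⁻¹ = q * (r * u * r⁻¹) * q⁻¹ := by rw [hu']; group
      rw [e, hu'] at h5
      exact mul_left_cancel (mul_right_cancel h5)
    have hxJ' : q * x * q⁻¹ ∈ zj (o2 P) := zjQ_norm h hqP hxJ
    have hmem : ∃ k : Fin (2 ^ m + 1), k ∉ ({0, Fin.last (2 ^ m)} : Finset (Fin (2 ^ m + 1))) :=
      exists_not_mem _ (by
        have h5 : ({0, Fin.last (2 ^ m)} : Finset (Fin (2 ^ m + 1))).card ≤ 2 := Finset.card_le_two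
        have := h.five
        omega)
    obtain ⟨k, hk⟩ := hmem
    simp only [Finset.mem_insert, Finset.mem_singleton, not_or] at hk
    obtain ⟨A, hA⟩ := exists_ex h hk.2
    obtain ⟨c, hcA, hc1⟩ := hA.ex
    have h5 := ex_comm h hU huW hxW hxJ hc he hk.1 (zero_ne_last m).symm hk.2 hA hcA
    have h6 := ex_comm h hU (hU.conj hqz huW) (hU.conj hqz hxW) hxJ' hc' he' hk.1 (zero_ne_last m).symm hk.2
      hA hcA
    rw [hqx] at h6
    have h7 : c * (zz ε (Fin.last (2 ^ m)) * x) * c⁻¹ =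
        (c * zz ε (Fin.last (2 ^ m)) * c⁻¹) * (c * x * c⁻¹) := by group
    rw [h7, h5] at h6
    have h8 := mul_right_cancel h6
    have h9 := (h.ev.fixes_iff h3 hc1 (Fin.last (2 ^ m))).1 (comm_of_conj h8)
    rw [Equiv.swap_apply_right] at h9
    exact hk.2 h9

/-- The 2-subgroups of `C_G(z)` over `J(O₂(P))` normalise `V`. -/
theorem two_le (h : NSix.CaseJ.Base.Hyp S P ε) (hU : HypU S P ε U) {T : Subgroup G} (hT : IsPGroup 2 T)
    (hTz : T ≤ centralizer ({zz ε 0} : Set G)) (hJ : jj (o2 P) ≤ T) :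
    T ≤ normalizer (zl (S : Subgroup G) P : Set G) := by
  set L := normalizer (zl (S : Subgroup G) P : Set G) with hL
  have hJL : jj (o2 P) ≤ L := (ChoiceBase.jj_le _).trans ((sylQ h).1.trans (centralizer_le_normalizer _))
  have h1 := ChoiceNse.eq_of_normalizer_inf_le (T := T ⊓ L) (P := T) hT inf_le_left (by
    rintro t ⟨ht, htT⟩
    refine ⟨htT, mem_of_jjQ h hU (hTz htT) ?_⟩
    have h2 : cj t (T ⊓ L) = T ⊓ L := cj_eq_of_mem_normalizer ht
    have h3 : jj (o2 P) ≤ cj t (T ⊓ L) := by rw [h2]; exact le_inf hJ hJL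
    refine h3.trans ((cj_mono t inf_le_right).trans ?_)
    rw [hL, cj_normalizer])
  rw [← h1]
  exact inf_le_right

/-- **(N2)** -/
theorem mem_of_Q_le (h : NSix.CaseJ.Base.Hyp S P ε) (hU : HypU S P ε U) {g : G}
    (hg : g ∈ centralizer ({zz ε 0} : Set G))
    (h2 : o2 P ≤ normalizer ((cj g (zl (S : Subgroup G) P) : Subgroup G) : Set G)) :
    g ∈ normalizer (zl (S : Subgroup G) P : Set G) := by
  refine J.N2.lemN h ?_ h2
  rintro _ ⟨v, hv, rfl⟩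
  exact hU.le_Q h (hU.conj hg (hU.VU hv))

end Cfsg.Agent.Omega.NO3S.SN.TwoQ

end

section


/-!
# THEOREM SN, K-free part, case `J(S) ≰ O₂(P)`: the relative frame (helper586 #20800, helper28 #21330)

`M₀` any subgroup with `N_G(V) ∩ C_G(z) ≤ M₀`; `D` maximal among the subgroups `z ∈ D ≤ V` with `C_G(D) ≰ M₀`;
`O₂(P) ≤ T ∈ Syl₂(C_G(D))`; `R` minimal with `T ≤ R ≤ C_G(D)`, `R ≰ M₀`.

* `Fr.exists_of` : existence;
* `Fr.T_le` : `T ≤ N_G(V)`;
* `Fr.TI` : `c ∈ C_G(D) ∖ M₀` implies `V ∩ V^c = D`;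
* `Fr.isMinPar`, `Fr.sylR` : `R` is a minimal parabolic over `T ∈ Syl₂(R)`;
* `Fr.of_le`, `Fr.of_ne` : a normal subgroup `N₀` of `R` with `N₀ ≤ M₀` or `N₀ T ≠ R` has `T ∩ N₀ ≤ O₂(R)`, `N₀ ≤ M₀`;
* `Fr.nJ` : `J(O₂(P)) ≰ O₂(R)`;
* `Fr.normT` : `N_R(T) ≤ N_G(V)`;
* `Fr.norm_cj` : `O₂(R)` normalises `V^x`, `x ∈ R`;
* `Fr.mem_of_fix`: `v ∈ V`, `[v, R] ≤ D` implies `v ∈ D`; `Fr.oddGen` the same for `O²(R)`.
-/

set_option autoImplicit false
set_option linter.unusedSectionVars false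

namespace Cfsg.Agent.Omega.NO3S.SN.TwoQ

open Subgroup Cfsg Cfsg.Agent.PLocal.ThompsonJ Cfsg.Agent.ZN Cfsg.Agent.ZN.ChoiceBase
open Cfsg.Agent.ZN.ChoiceSit Cfsg.Agent.PLocal.ElemAbSup
open Cfsg.Agent.Omega.MinPar
open Cfsg.Agent.Omega.S5.Def Cfsg.Agent.Omega.S5.Syl Cfsg.Agent.Omega.S5.Pair
open Cfsg.Agent.Omega.NSix.Base Cfsg.Agent.Omega.NSix.Basic
open Cfsg.Agent.Omega.SQ1.Bau (mem_AA_of_comm elem_comm elem_sq mem_sup_comm card_sup_comm)
open Cfsg.Agent.Omega.NSix.CaseJ.Base Cfsg.Agent.Omega.NSix.CaseJ.Exact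
open Cfsg.Agent.Omega.NSix.CaseJ.LemQ
open Cfsg.Agent.Omega.NO3S.SN.TwoP (zero_ne_last card_le_AA side_norm sylQ two_cosets Q_le_cz cz_of_acts jjQ_conj
  oddGen_sup)
open Cfsg.Agent.MinSimple.MinParabolic (IsMinPar)
open Cfsg.Agent.MinSimple.VModule (oddGen oddGen_le mem_oddGen le_normalizer_oddGen oddGen_le_of_sup)

universe u

variable {G : Type u} [Group G] [Finite G] {S : Sylow 2 G} {P : Subgroup G} {m : ℕ}
  {ε : (Fin (2 ^ m + 1) → ZMod 2) → G} {U : Subgroup G}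

/-- **The relative frame.** -/
structure Fr (S : Sylow 2 G) (P : Subgroup G) {m : ℕ} (ε : (Fin (2 ^ m + 1) → ZMod 2) → G)
    (U M₀ D T R : Subgroup G) : Prop where
  h : NSix.CaseJ.Base.Hyp S P ε
  hU : HypU S P ε U
  le_M₀ : normalizer (zl (S : Subgroup G) P : Set G) ⊓ centralizer ({zz ε 0} : Set G) ≤ M₀
  D_le : D ≤ zl (S : Subgroup G) P
  z_mem : zz ε 0 ∈ D
  max : ∀ E : Subgroup G, D < E → E ≤ zl (S : Subgroup G) P → centralizer (E : Set G) ≤ M₀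
  QT : o2 P ≤ T
  syl : Syl T (centralizer (D : Set G))
  TR : T ≤ R
  RC : R ≤ centralizer (D : Set G)
  nR : ¬ R ≤ M₀
  min : ∀ K : Subgroup G, T ≤ K → K < R → K ≤ M₀

/-- Existence of `T` and `R`. -/
theorem Fr.exists_of (h : NSix.CaseJ.Base.Hyp S P ε) (hU : HypU S P ε U) {M₀ D : Subgroup G}
    (hL : normalizer (zl (S : Subgroup G) P : Set G) ⊓ centralizer ({zz ε 0} : Set G) ≤ M₀)
    (hD : D ≤ zl (S : Subgroup G) P) (hz : zz ε 0 ∈ D)
    (hmax : ∀ E : Subgroup G, D < E → E ≤ zl (S : Subgroup G) P → centralizer (E : Set G) ≤ M₀)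
    (hn : ¬ centralizer (D : Set G) ≤ M₀) : ∃ T R : Subgroup G, Fr S P ε U M₀ D T R := by
  have hQD : o2 P ≤ centralizer (D : Set G) :=
    (sylQ h).1.trans (centralizer_le (SetLike.coe_subset_coe.2 hD))
  obtain ⟨T, hT, hQT⟩ := exists_syl (sylQ h).2.1 hQD
  obtain ⟨R, ⟨hR1, hR2, hR3⟩, hmin⟩ := Set.Finite.exists_minimal
    (s := {K : Subgroup G | T ≤ K ∧ K ≤ centralizer (D : Set G) ∧ ¬ K ≤ M₀}) (Set.toFinite _)
    ⟨centralizer (D : Set G), hT.1, le_rfl, hn⟩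
  refine ⟨T, R, h, hU, hL, hD, hz, hmax, hQT, hT, hR1, hR2, hR3, fun K hK hKR => ?_⟩
  by_contra hcon
  exact hKR.not_ge (hmin ⟨hK, hKR.le.trans hR2, hcon⟩ hKR.le)

/-- Existence of `D`, `T` and `R`. -/
theorem Fr.exists_of' (h : NSix.CaseJ.Base.Hyp S P ε) (hU : HypU S P ε U) {M₀ : Subgroup G}
    (hL : normalizer (zl (S : Subgroup G) P : Set G) ⊓ centralizer ({zz ε 0} : Set G) ≤ M₀)
    (hn : ¬ centralizer ({zz ε 0} : Set G) ≤ M₀) : ∃ D T R : Subgroup G, Fr S P ε U M₀ D T R := by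
  obtain ⟨D, ⟨hD1, hD2, hD3⟩, hmax⟩ := Set.Finite.exists_maximal
    (s := {D : Subgroup G | zz ε 0 ∈ D ∧ D ≤ zl (S : Subgroup G) P ∧ ¬ centralizer (D : Set G) ≤ M₀})
    (Set.toFinite _) ⟨zpowers (zz ε 0), mem_zpowers _, zpowers_le.2 (zz_mem h.ev 0), fun h0 => hn (le_trans (by
      intro x hx
      rw [mem_centralizer_iff]
      intro y hy
      obtain ⟨k, rfl⟩ := mem_zpowers_iff.1 hy
      have h1 : Commute (zz ε 0) x := (mem_centralizer_singleton_iff.1 hx).symm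
      exact (h1.zpow_left k).eq) h0)⟩
  refine ⟨D, Fr.exists_of h hU hL hD2 hD1 (fun E hDE hEV => ?_) hD3⟩
  by_contra hcon
  exact hDE.not_ge (hmax ⟨hDE.le hD1, hEV, hcon⟩ hDE.le)

namespace Fr

variable {M₀ D T R : Subgroup G} (f : Fr S P ε U M₀ D T R)
include f

theorem D_cz : centralizer (D : Set G) ≤ centralizer ({zz ε 0} : Set G) :=
  centralizer_le (Set.singleton_subset_iff.2 f.z_mem)

theorem R_cz : R ≤ centralizer ({zz ε 0} : Set G) := f.RC.trans f.D_cz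

theorem T2 : IsPGroup 2 T := f.syl.2.1

theorem JT : jj (o2 P) ≤ T := (ChoiceBase.jj_le _).trans f.QT

/-- `T ≤ N_G(V)`. -/
theorem T_le : T ≤ normalizer (zl (S : Subgroup G) P : Set G) :=
  two_le f.h f.hU f.T2 (f.TR.trans f.R_cz) f.JT

theorem T_M₀ : T ≤ M₀ := (le_inf f.T_le (f.TR.trans f.R_cz)).trans f.le_M₀

/-- **(TI)** -/
theorem TI {c v : G} (hc : c ∈ centralizer (D : Set G)) (hcM : c ∉ M₀) (hv : v ∈ zl (S : Subgroup G) P)
    (hv' : c * v * c⁻¹ ∈ zl (S : Subgroup G) P) : v ∈ D := by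
  by_contra hvD
  set V := zl (S : Subgroup G) P with hV
  set E := V ⊓ cj c V with hE
  have hcD : ∀ d ∈ D, c * d * c⁻¹ = d := fun d hd => by
    rw [← mem_centralizer_iff.1 hc d hd, mul_inv_cancel_right]
  have hDE : D ≤ E := fun d hd => ⟨f.D_le hd, ⟨d, f.D_le hd, hcD d hd⟩⟩
  have hvE : c * v * c⁻¹ ∈ E := ⟨hv', ⟨v, hv, rfl⟩⟩
  have hvD' : c * v * c⁻¹ ∉ D := fun h0 => hvD (by
    have h1 := hcD _ h0
    have h2 : v = c⁻¹ * (c * v * c⁻¹) * c := by group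
    have h3 : c⁻¹ * (c * v * c⁻¹) * c = c * v * c⁻¹ := by
      have h4 := mem_centralizer_iff.1 hc _ h0
      calc c⁻¹ * (c * v * c⁻¹) * c = c⁻¹ * ((c * v * c⁻¹) * c) := by group
        _ = c⁻¹ * (c * (c * v * c⁻¹)) := by rw [h4]
        _ = c * v * c⁻¹ := by group
    rw [h2, h3]; exact h0)
  have hlt : D < E := lt_of_le_of_ne hDE fun e => hvD' (e ▸ hvE)
  have hEM := f.max E hlt inf_le_left
  have hEz : centralizer (E : Set G) ≤ centralizer ({zz ε 0} : Set G) :=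
    centralizer_le (Set.singleton_subset_iff.2 (hDE f.z_mem))
  -- Sylow subgroups of `C_G(E)`
  have hQ1 : o2 P ≤ centralizer (E : Set G) :=
    (sylQ f.h).1.trans (centralizer_le (SetLike.coe_subset_coe.2 inf_le_left))
  have hQ2 : cj c (o2 P) ≤ centralizer (E : Set G) := by
    have h1 := cj_mono c (sylQ f.h).1
    rw [cj_centralizer] at h1
    exact h1.trans (centralizer_le (SetLike.coe_subset_coe.2 inf_le_right))
  obtain ⟨T₁, hT₁, hQT₁⟩ := exists_syl (sylQ f.h).2.1 hQ1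
  obtain ⟨T₂, hT₂, hQT₂⟩ := exists_syl (isPGroup_cj c (sylQ f.h).2.1) hQ2
  obtain ⟨d, hd, hdT⟩ := syl_conj hT₁ hT₂
  have h1 : T₁ ≤ normalizer (V : Set G) :=
    two_le f.h f.hU hT₁.2.1 (hT₁.1.trans hEz) ((ChoiceBase.jj_le _).trans hQT₁)
  have h2 : o2 P ≤ normalizer ((cj (c⁻¹ * d) V : Subgroup G) : Set G) := by
    have h3 : cj c (o2 P) ≤ cj d (normalizer (V : Set G)) := hQT₂.trans (hdT ▸ cj_mono d h1)
    rw [← cj_normalizer, ← cj_cj]
    exact cj_le_iff.1 h3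
  have hz : c⁻¹ * d ∈ centralizer ({zz ε 0} : Set G) := mul_mem (inv_mem (f.D_cz hc)) (hEz hd)
  have h4 : c⁻¹ * d ∈ normalizer (V : Set G) := mem_of_Q_le f.h f.hU hz h2
  have h5 : c⁻¹ * d ∈ M₀ := f.le_M₀ ⟨h4, hz⟩
  have h6 := mul_mem (hEM hd) (inv_mem h5)
  have e : d * (c⁻¹ * d)⁻¹ = c := by group
  rw [e] at h6
  exact hcM h6

theorem not_le : ¬ R ≤ normalizer (zl (S : Subgroup G) P : Set G) := fun h0 =>
  f.nR ((le_inf h0 f.R_cz).trans f.le_M₀)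

/-- `N_R(T) ≤ N_G(V)`. -/
theorem normT {r : G} (hr : r ∈ R) (hn : r ∈ normalizer (T : Set G)) :
    r ∈ normalizer (zl (S : Subgroup G) P : Set G) := by
  refine mem_of_jjQ f.h f.hU (f.R_cz hr) ?_
  have h1 := cj_mono r f.T_le
  rw [cj_eq_of_mem_normalizer hn, cj_normalizer] at h1
  exact f.JT.trans h1

theorem sylR : Syl T R := ⟨f.TR, f.T2, fun Q hQ hQ2 hTQ => f.syl.2.2 Q (hQ.trans f.RC) hQ2 hTQ⟩

theorem isMinPar : IsMinPar T R where
  le := f.TR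
  not_le h0 := f.not_le fun _ hr => f.normT hr (h0 hr)
  exists_max := by
    refine ⟨R ⊓ M₀, lt_of_le_of_ne inf_le_left fun h0 => f.nR (inf_eq_left.1 h0), fun K hK hKR => ?_⟩
    exact le_inf hKR.le (f.min K hK hKR)

/-- A normal subgroup of `R` which does not supplement `T` lies in `M₀`. -/
theorem of_ne {N₀ : Subgroup G} (hN₀ : N₀ ≤ R) (hn : R ≤ normalizer (N₀ : Set G)) (hne : N₀ ⊔ T ≠ R) :
    N₀ ≤ M₀ ∧ T ⊓ N₀ ≤ o2 R := by
  constructor
  · exact le_sup_left.trans (f.min (N₀ ⊔ T) le_sup_right (lt_of_le_of_ne (sup_le hN₀ f.TR) hne))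
  · have hfact : Fact (Nat.Prime 2) := ⟨Nat.prime_two⟩
    exact (f.isMinPar.sup_eq_or_inf_le f.T2 (syl_not_dvd f.sylR) hN₀ hn).resolve_left hne

/-- A normal subgroup of `R` in `M₀`. -/
theorem of_le {N₀ : Subgroup G} (hN₀ : N₀ ≤ R) (hn : R ≤ normalizer (N₀ : Set G)) (hle : N₀ ≤ M₀) :
    T ⊓ N₀ ≤ o2 R :=
  (f.of_ne hN₀ hn fun h0 => f.nR (by rw [← h0]; exact sup_le hle f.T_M₀)).2

theorem OT : o2 R ≤ T := ChoiceSit.o2_le_syl f.sylR

/-- `O₂(R)` normalises the `R`-conjugates of `V`. -/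
theorem norm_cj {r : G} (hr : r ∈ R) :
    o2 R ≤ normalizer ((cj r (zl (S : Subgroup G) P) : Subgroup G) : Set G) := by
  rw [← cj_normalizer]
  have h1 := cj_mono r (f.OT.trans f.T_le)
  rwa [cj_eq_of_mem_normalizer (MinSimple.VModule.le_normalizer_o2 R hr)] at h1

/-- `J(O₂(P)) ≰ O₂(R)`. -/
theorem nJ : ¬ jj (o2 P) ≤ o2 R := fun h0 =>
  f.not_le fun _ hr => mem_of_jjQ f.h f.hU (f.R_cz hr) (h0.trans (f.norm_cj hr))

/-- `v ∈ V`, `[v, c] ∈ V`, `v ∉ D` implies `c ∈ M₀`. -/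
theorem mem_M₀ {c v : G} (hc : c ∈ R) (hv : v ∈ zl (S : Subgroup G) P) (hvD : v ∉ D)
    (hv' : c * v * c⁻¹ * v⁻¹ ∈ zl (S : Subgroup G) P) : c ∈ M₀ := by
  by_contra hcon
  refine hvD (f.TI (f.RC hc) hcon hv ?_)
  have h1 := mul_mem hv' hv
  rwa [inv_mul_cancel_right] at h1

/-- `R` moves every `v ∈ V ∖ D` modulo `V`. -/
theorem mem_of_fix {v : G} (hv : v ∈ zl (S : Subgroup G) P)
    (hc : ∀ r ∈ R, r * v * r⁻¹ * v⁻¹ ∈ zl (S : Subgroup G) P) : v ∈ D := by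
  by_contra hvD
  exact f.nR fun r hr => f.mem_M₀ hr hv hvD (hc r hr)

/-- `O²(R)` moves every `v ∈ V ∖ D` modulo `V`. -/
theorem mem_of_oddGen {v : G} (hv : v ∈ zl (S : Subgroup G) P)
    (hc : ∀ r ∈ oddGen R, r * v * r⁻¹ * v⁻¹ ∈ zl (S : Subgroup G) P) : v ∈ D := by
  by_contra hvD
  have h1 : oddGen R ≤ M₀ := fun r hr => f.mem_M₀ (oddGen_le R hr) hv hvD (hc r hr)
  have h2 : oddGen R ⊔ T = R := oddGen_sup f.sylR
  exact f.nR (by rw [← h2]; exact sup_le h1 f.T_M₀)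

end Fr

end Cfsg.Agent.Omega.NO3S.SN.TwoQ

end

section


/-!
# THEOREM SN, K-free part, case `J(S) ≰ O₂(P)`: the `R`-modules `D ⟨w ^ R⟩`

* `Mod D R w` : `D ⟨w ^ R⟩`;
* `Fr.comm_Mod` : `[w, T] ⊆ {1, x}`, `x ∈ D`: `[D ⟨w ^ R⟩, O₂(R)] ⊆ {1, x}`;
* `Fr.mem_O` : `b ∈ T`, `[M, b] ≤ D`, `M` an `R`-invariant subgroup with `V ∩ M ≰ D`: `b ∈ O₂(R)`;
* `Fr.perm_T` : `rr i i' ∈ D`: `T` preserves `{i, i'}`.
-/

set_option autoImplicit false
set_option linter.unusedSectionVars false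

namespace Cfsg.Agent.Omega.NO3S.SN.TwoQ

open Subgroup Cfsg Cfsg.Agent.PLocal.ThompsonJ Cfsg.Agent.ZN Cfsg.Agent.ZN.ChoiceBase
open Cfsg.Agent.ZN.ChoiceSit Cfsg.Agent.PLocal.ElemAbSup
open Cfsg.Agent.Omega.MinPar
open Cfsg.Agent.Omega.S5.Def Cfsg.Agent.Omega.S5.Syl Cfsg.Agent.Omega.S5.Pair
open Cfsg.Agent.Omega.NSix.Base Cfsg.Agent.Omega.NSix.Basic
open Cfsg.Agent.Omega.NSix.CaseJ.Base Cfsg.Agent.Omega.NSix.CaseJ.Exact
open Cfsg.Agent.Omega.NSix.CaseJ.LemQ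
open Cfsg.Agent.Omega.NO3S.SN.TwoP (zero_ne_last card_le_AA side_norm sylQ two_cosets Q_le_cz cz_of_acts jjQ_conj
  oddGen_sup Mod D_le_Mod conj_mem_Mod mem_Mod Mod_le Mod_conj)

universe u

variable {G : Type u} [Group G]

variable [Finite G] {S : Sylow 2 G} {P : Subgroup G} {m : ℕ} {ε : (Fin (2 ^ m + 1) → ZMod 2) → G}
  {U : Subgroup G}

namespace Fr

variable {M₀ D T R : Subgroup G} (f : Fr S P ε U M₀ D T R)
include f

theorem conj_D {r d : G} (hr : r ∈ R) (hd : d ∈ D) : r * d * r⁻¹ = d := TwoP.conj_D f.RC hr hd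

theorem Mod_norm {w r e : G} (hr : r ∈ R) (he : e ∈ Mod D R w) : r * e * r⁻¹ ∈ Mod D R w :=
  Mod_conj (fun _ hr _ hd => by rw [f.conj_D hr hd]; exact hd) hr he

theorem VU : zl (S : Subgroup G) P ≤ U := f.hU.VU

theorem DU : D ≤ U := f.D_le.trans f.VU

theorem Mod_U {w : G} (hw : w ∈ U) : Mod D R w ≤ U :=
  Mod_le f.DU fun _ hr => f.hU.conj (f.R_cz hr) hw

theorem UT : U ≤ T := (f.hU.le_Q f.h).trans f.QT

/-- the commutators with `O₂(R)` -/
theorem comm_Mod {w x : G} (hw : w ∈ U) (hx : x ∈ D) (hc : ∀ t ∈ T, t * w * t⁻¹ * w⁻¹ = 1 ∨ t * w * t⁻¹ * w⁻¹ = x)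
    {b e : G} (hb : b ∈ o2 R) (he : e ∈ Mod D R w) : b * e * b⁻¹ * e⁻¹ = 1 ∨ b * e * b⁻¹ * e⁻¹ = x := by
  have hxx : x * x = 1 := f.hU.sq (f.DU hx)
  have hOR : o2 R ≤ R := f.OT.trans f.TR
  let K : Subgroup G :=
    { carrier := {e | e ∈ U ∧ ∀ b ∈ o2 R, b * e * b⁻¹ * e⁻¹ = 1 ∨ b * e * b⁻¹ * e⁻¹ = x}
      one_mem' := ⟨one_mem _, fun b _ => Or.inl (by group)⟩
      mul_mem' := by
        rintro e e' ⟨he, h2⟩ ⟨he', h3⟩
        refine ⟨mul_mem he he', fun b hb => ?_⟩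
        have h4 : b * e' * b⁻¹ * e'⁻¹ ∈ U :=
          mul_mem (f.hU.conj (f.R_cz (hOR hb)) he') (inv_mem he')
        have h5 : b * (e * e') * b⁻¹ * (e * e')⁻¹ = (b * e * b⁻¹ * e⁻¹) * (b * e' * b⁻¹ * e'⁻¹) := by
          have h6 : b * (e * e') * b⁻¹ * (e * e')⁻¹ = b * e * b⁻¹ * ((b * e' * b⁻¹ * e'⁻¹) * e⁻¹) := by group
          rw [h6, f.hU.comm h4 (inv_mem he)]
          group
        rw [h5]
        rcases h2 b hb with h6 | h6 <;> rcases h3 b hb with h7 | h7 <;> rw [h6, h7]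
        · left; rw [one_mul]
        · right; rw [one_mul]
        · right; rw [mul_one]
        · left; exact hxx
      inv_mem' := by
        rintro e ⟨he, h2⟩
        refine ⟨inv_mem he, fun b hb => ?_⟩
        have hei : e⁻¹ = e := inv_eq_of_mul_eq_one_left (f.hU.sq he)
        rw [hei]
        exact h2 b hb }
  have h1 : Mod D R w ≤ K := by
    refine Mod_le (fun d hd => ⟨f.DU hd, fun b hb => Or.inl ?_⟩) fun r hr => ?_
    · rw [f.conj_D (hOR hb) hd, mul_inv_cancel]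
    · refine ⟨f.hU.conj (f.R_cz hr) hw, fun b hb => ?_⟩
      have hb' : r⁻¹ * b * r⁻¹⁻¹ ∈ o2 R :=
        (mem_normalizer_iff.1 (MinSimple.VModule.le_normalizer_o2 R (inv_mem hr)) b).1 hb
      have e1 : b * (r * w * r⁻¹) * b⁻¹ * (r * w * r⁻¹)⁻¹ =
          r * ((r⁻¹ * b * r⁻¹⁻¹) * w * (r⁻¹ * b * r⁻¹⁻¹)⁻¹ * w⁻¹) * r⁻¹ := by group
      rw [e1]
      rcases hc _ (f.OT hb') with h2 | h2
      · left; rw [h2]; group
      · right; rw [h2, f.conj_D hr hx]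
  exact (h1 he).2 b hb

/-- An element of `T` which centralises a section `M / D` with `V ∩ M ≰ D` lies in `O₂(R)`. -/
theorem mem_O {M : Subgroup G} (hM : ∀ r ∈ R, ∀ e ∈ M, r * e * r⁻¹ ∈ M) {w : G} (hwM : w ∈ M)
    (hw : w ∈ zl (S : Subgroup G) P) (hwD : w ∉ D) {b : G} (hb : b ∈ T)
    (hc : ∀ e ∈ M, b * e * b⁻¹ * e⁻¹ ∈ D) : b ∈ o2 R := by
  let N : Subgroup G :=
    { carrier := {r | r ∈ R ∧ ∀ e ∈ M, r * e * r⁻¹ * e⁻¹ ∈ D}
      one_mem' := ⟨one_mem _, fun e _ => by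
        have : (1 : G) * e * 1⁻¹ * e⁻¹ = 1 := by group
        rw [this]; exact one_mem _⟩
      mul_mem' := by
        rintro r s ⟨hr, h2⟩ ⟨hs, h3⟩
        refine ⟨mul_mem hr hs, fun e he => ?_⟩
        have h4 : (r * s) * e * (r * s)⁻¹ * e⁻¹ = r * (s * e * s⁻¹ * e⁻¹) * r⁻¹ * (r * e * r⁻¹ * e⁻¹) := by group
        rw [h4, f.conj_D hr (h3 e he)]
        exact mul_mem (h3 e he) (h2 e he)
      inv_mem' := by
        rintro r ⟨hr, h2⟩
        refine ⟨inv_mem hr, fun e he => ?_⟩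
        have h3 : r⁻¹ * e * r⁻¹⁻¹ ∈ M := hM _ (inv_mem hr) e he
        have h4 := h2 _ h3
        have h5 : r * (r⁻¹ * e * r⁻¹⁻¹) * r⁻¹ * (r⁻¹ * e * r⁻¹⁻¹)⁻¹ = (r⁻¹ * e * r⁻¹⁻¹ * e⁻¹)⁻¹ := by group
        rw [h5] at h4
        have := inv_mem h4
        rwa [inv_inv] at this }
  have hNR : N ≤ R := fun r hr => hr.1
  have hNn : R ≤ normalizer (N : Set G) := by
    intro r hr
    refine mem_normalizer_of_cj_le ?_
    rintro _ ⟨s, hs, rfl⟩
    change r * s * r⁻¹ ∈ N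
    refine ⟨R.mul_mem (R.mul_mem hr hs.1) (R.inv_mem hr), fun e he => ?_⟩
    have h3 : r⁻¹ * e * r⁻¹⁻¹ ∈ M := hM _ (inv_mem hr) e he
    have h4 := hs.2 _ h3
    have h5 : r * s * r⁻¹ * e * (r * s * r⁻¹)⁻¹ * e⁻¹ =
        r * (s * (r⁻¹ * e * r⁻¹⁻¹) * s⁻¹ * (r⁻¹ * e * r⁻¹⁻¹)⁻¹) * r⁻¹ := by group
    rw [h5, f.conj_D hr h4]
    exact h4
  have hNM : N ≤ M₀ := fun r hr => f.mem_M₀ hr.1 hw hwD (f.D_le (hr.2 w hwM))
  exact f.of_le hNR hNn hNM ⟨hb, f.TR hb, hc⟩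

/-- `N_G(V)` acts on `V` by permutations. -/
theorem acts_of {g : G} (hg : g ∈ normalizer (zl (S : Subgroup G) P : Set G)) :
    ∃ σ : Equiv.Perm (Fin (2 ^ m + 1)), Acts ε g σ :=
  (NSix.Norm.evenSet' f.h.hm S f.h.ev f.h.SP f.h.fix0).perm g hg

/-- `C_{N_G(V)}(D)` preserves the pairs in `D`. -/
theorem perm_of {g : G} (hg : g ∈ centralizer (D : Set G)) {σ : Equiv.Perm (Fin (2 ^ m + 1))} (hσ : Acts ε g σ)
    {i i' : Fin (2 ^ m + 1)} (hii : i ≠ i') (hi : rr ε i i' ∈ D) : σ i = i ∨ σ i = i' :=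
  NSix.CaseJ.Fus.pair_of_cent f.h hii hσ (mem_centralizer_iff.1 hg _ hi).symm

/-- `[zz i, t] ∈ {1, rr i i'}` for `t ∈ T`. -/
theorem comm_zz {i i' : Fin (2 ^ m + 1)} (hii : i ≠ i') (hi : rr ε i i' ∈ D) {t : G} (ht : t ∈ T) :
    t * zz ε i * t⁻¹ * (zz ε i)⁻¹ = 1 ∨ t * zz ε i * t⁻¹ * (zz ε i)⁻¹ = rr ε i i' := by
  obtain ⟨σ, hσ⟩ := f.acts_of (f.T_le ht)
  have h1 := zz_conj hσ i
  rw [h1, zz_inv f.h.ev]
  rcases f.perm_of (f.syl.1 ht) hσ hii hi with h2 | h2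
  · left; rw [h2, zz_sq f.h.ev]
  · right; rw [h2]; exact zz_comm f.h.ev _ _

end Fr

end Cfsg.Agent.Omega.NO3S.SN.TwoQ

end

section


/-!
# SN.Two / SymBigL: the frame at every level (helper291 #20271 (B1)-(B3))

`V = V_P` the even subsets of `2^m + 1 ≥ 9` letters, `Q = O₂(P) = C_S(V)`, `L = N_G(V)`, `z = pt ε 0`.

* `Fr S P m ε` : `SN.Hyp` together with (stage independent) `Ω₁(Z(Q)) = V`, LEMMA N for `C_G(z)`, fusion in `V`;
* `Fr.evL` : `L` induces the full symmetric group; `Fr.conj_S`; `Fr.sylQ` : `Q ∈ Syl₂(C_G(V))`;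
* `Fr.two_le` : the 2-subgroups of `C_G(z)` over `Q` lie in `L`;
* `Fr.norm_le` : `N_G(T) ∩ C_G(z) ≤ L` for `Q ≤ T ≤ L`;
* `Fr.syl_le` : for `z ∈ D ≤ V` a Sylow subgroup of `C_G(D)` over `Q` lies in `L`;
* `Fr.exists_conj` : `z ∈ D ≤ V ∩ V^g` implies `V^g = V^c` with `c ∈ C_G(D)`;
* `Fr.U_comm`, `Fr.U_sq`, `Fr.U_le_Q`, `Fr.U_cent` : `U_z` is elementary abelian, `C_{U_z}(Q) = V`.
-/

set_option autoImplicit false
set_option linter.unusedSectionVars false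

namespace Cfsg.Agent.Omega.NO3S.SNL

open Subgroup Cfsg Cfsg.Agent.PLocal.ThompsonJ Cfsg.Agent.ZN Cfsg.Agent.ZN.ChoiceBase
open Cfsg.Agent.PLocal.ElemAbSup
open Cfsg.Agent.Omega.MinPar Cfsg.Agent.Omega.Frame Cfsg.Agent.Omega.FrameNOFF
open Cfsg.Agent.Omega.S5.Def Cfsg.Agent.Omega.S5.Syl Cfsg.Agent.Omega.S5.Pair
open Cfsg.Agent.Omega.NSix.Base Cfsg.Agent.Omega.NSix.Basic
open Cfsg.Agent.Omega.NO3S.SN (pt Cn Qn U mem_Cn mem_Cn' Base)
open Cfsg.Agent.ZN.ChoiceSit (Syl exists_syl syl_conj)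
open scoped Pointwise

universe u

variable {G : Type u} [Group G] [Finite G] {S : Sylow 2 G} {P : Subgroup G} {m : ℕ}
  {ε : (Fin (2 ^ m + 1) → ZMod 2) → G}

/-- **The frame at every level.** -/
structure Fr (S : Sylow 2 G) (P : Subgroup G) (m : ℕ) (ε : (Fin (2 ^ m + 1) → ZMod 2) → G) : Prop
    extends SN.Hyp S P m ε where
  /-- `Ω₁(Z(O₂(P))) = V` -/
  oz : ∀ u ∈ o2 P, u * u = 1 → (∀ q ∈ o2 P, q * u = u * q) → u ∈ zl (S : Subgroup G) P
  /-- LEMMA N, for the lines on `z` -/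
  lemN : ∀ g ∈ Cn (pt ε 0), o2 P ≤ normalizer ((cj g (zl (S : Subgroup G) P) : Subgroup G) : Set G) →
    g ∈ normalizer (zl (S : Subgroup G) P : Set G)
  /-- `N_G(V)` controls fusion in `V` -/
  ctl : ∀ v ∈ zl (S : Subgroup G) P, ∀ g : G, g * v * g⁻¹ ∈ zl (S : Subgroup G) P →
    ∃ k ∈ normalizer (zl (S : Subgroup G) P : Set G), k * v * k⁻¹ = g * v * g⁻¹

namespace Fr

variable (h : Fr S P m ε)
include h

theorem two_m : 2 ≤ m := le_trans (by norm_num) h.m3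

theorem three : 3 ≤ 2 ^ m + 1 := by have := h.toHyp.nine_le; omega

theorem SP : (S : Subgroup G) ≤ P := h.star.isLoc.le

theorem PV : P ≤ normalizer (zl (S : Subgroup G) P : Set G) := MinSimple.VModule.le_normalizer_zl _ _

theorem SV : (S : Subgroup G) ≤ normalizer (zl (S : Subgroup G) P : Set G) := h.SP.trans h.PV

/-- `N_G(V)` induces the full symmetric group on `V`. -/
theorem evL : EvenSet (2 ^ m + 1) (zl (S : Subgroup G) P) (normalizer (zl (S : Subgroup G) P : Set G)) ε :=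
  NSix.Norm.evenSet' h.two_m S h.ev h.SP h.fix0

theorem QS : o2 P ≤ (S : Subgroup G) := NO3S.OneLine.o2_le S h.star.toIsPar

theorem QP : o2 P ≤ P := h.QS.trans h.SP

/-- `Q = C_S(V)` -/
theorem inf_cent : (S : Subgroup G) ⊓ centralizer (zl (S : Subgroup G) P : Set G) = o2 P :=
  IsParS.inf_centralizer S h.ctx.char2 h.star

theorem cS {x : G} (hx : x ∈ (S : Subgroup G)) (hc : ∀ v ∈ zl (S : Subgroup G) P, x * v = v * x) :
    x ∈ o2 P := by
  rw [← h.inf_cent]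
  exact ⟨hx, mem_centralizer_iff.2 fun v hv => (hc v hv).symm⟩

theorem VcQ {x v : G} (hx : x ∈ o2 P) (hv : v ∈ zl (S : Subgroup G) P) : x * v = v * x := by
  rw [← h.inf_cent] at hx
  exact (mem_centralizer_iff.1 hx.2 v hv).symm

theorem V_elem : IsElementaryAbelian 2 (zl (S : Subgroup G) P) := isElementaryAbelian_iff.2
  ⟨fun x hx y hy => h.ev.comm_mem hx hy, fun x hx => by rw [pow_two]; exact h.ev.sq_mem hx⟩

theorem VQ : zl (S : Subgroup G) P ≤ o2 P := fun _ hx =>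
  (ChoiceBase.mem_zc.1 (h.star.isLoc.zl_le S h.ctx.char2 hx)).1

theorem VS : zl (S : Subgroup G) P ≤ (S : Subgroup G) := h.VQ.trans h.QS

/-- `Q ≤ C_G(z)` -/
theorem Q_le : o2 P ≤ Cn (pt ε 0) := fun _ hq => mem_Cn.2 (h.VcQ hq (h.ev.mem _))

theorem Q_le_L : o2 P ≤ normalizer (zl (S : Subgroup G) P : Set G) := h.QP.trans h.PV

/-- `S ∈ Syl₂(N_G(V))` -/
theorem syl_S : Syl (S : Subgroup G) (normalizer (zl (S : Subgroup G) P : Set G)) :=
  ⟨h.SV, S.isPGroup', fun _ _ hT hST => S.is_maximal' hT hST⟩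

/-- The 2-subgroups of `N_G(V)` are conjugate to subgroups of `S`. -/
theorem conj_S {R : Subgroup G} (hR : IsPGroup 2 R) (hRL : R ≤ normalizer (zl (S : Subgroup G) P : Set G)) :
    ∃ k ∈ normalizer (zl (S : Subgroup G) P : Set G), cj k R ≤ (S : Subgroup G) := by
  obtain ⟨T, hT, hRT⟩ := exists_syl hR hRL
  obtain ⟨k, hk, hkT⟩ := syl_conj hT h.syl_S
  exact ⟨k, hk, (cj_mono k hRT).trans hkT.le⟩

/-- `O₂(P)` is a Sylow 2-subgroup of `C_G(V)`. -/
theorem sylQ : Syl (o2 P) (centralizer (zl (S : Subgroup G) P : Set G)) := by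
  refine ⟨fun q hq => mem_centralizer_iff.2 fun v hv => (h.VcQ hq hv).symm, ChoiceSit.isPGroup_o2 P,
    fun R hR hR2 hQR => ?_⟩
  have hRM : R ≤ normalizer (zl (S : Subgroup G) P : Set G) := hR.trans (centralizer_le_normalizer _)
  obtain ⟨k, hk, hkS⟩ := h.conj_S hR2 hRM
  have h1 : cj k R ≤ o2 P := by
    intro x hx
    refine h.cS (hkS hx) fun v hv => ?_
    have h2 : cj k R ≤ centralizer (zl (S : Subgroup G) P : Set G) := by
      have h3 := cj_mono k hR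
      rwa [cj_centralizer, cj_eq_of_mem_normalizer hk] at h3
    exact (mem_centralizer_iff.1 (h2 hx) v hv).symm
  refine (Subgroup.eq_of_le_of_card_ge hQR ?_).symm
  rw [← card_cj k R]
  exact Subgroup.card_le_of_le h1

/-- **The 2-subgroups of `C_G(z)` over `Q` normalise `V`.** -/
theorem two_le {T : Subgroup G} (hT : IsPGroup 2 T) (hTz : T ≤ Cn (pt ε 0)) (hQ : o2 P ≤ T) :
    T ≤ normalizer (zl (S : Subgroup G) P : Set G) := by
  set L := normalizer (zl (S : Subgroup G) P : Set G) with hL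
  by_contra hcon
  have : Fact (Nat.Prime 2) := ⟨Nat.prime_two⟩
  have hlt : T ⊓ L < T := lt_of_le_of_ne inf_le_left fun e => hcon (inf_eq_left.1 e)
  refine (SporRec.MaxFix.lt_inf_normalizer hT hlt).not_ge ?_
  rintro t ⟨htT, ht⟩
  refine ⟨htT, h.lemN t (hTz htT) ?_⟩
  have h2 : cj t (T ⊓ L) = T ⊓ L := cj_eq_of_mem_normalizer ht
  have h3 : o2 P ≤ cj t (T ⊓ L) := by rw [h2]; exact le_inf hQ h.Q_le_L
  refine h3.trans ((cj_mono t inf_le_right).trans ?_)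
  rw [hL, cj_normalizer]

/-- `Q ≤ T ≤ L`: `N_G(T) ∩ C_G(z) ≤ L`. -/
theorem norm_le {T : Subgroup G} (hTL : T ≤ normalizer (zl (S : Subgroup G) P : Set G)) (hQ : o2 P ≤ T)
    {g : G} (hg : g ∈ normalizer (T : Set G)) (hz : g ∈ Cn (pt ε 0)) :
    g ∈ normalizer (zl (S : Subgroup G) P : Set G) := by
  refine h.lemN g hz (hQ.trans ?_)
  have h1 := cj_mono g hTL
  rwa [cj_eq_of_mem_normalizer hg, cj_normalizer] at h1

omit h in
theorem cent_le {D : Subgroup G} (hz : pt ε 0 ∈ D) : centralizer (D : Set G) ≤ Cn (pt ε 0) :=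
  centralizer_le (Set.singleton_subset_iff.2 hz)

theorem Q_le_cent {D : Subgroup G} (hD : D ≤ zl (S : Subgroup G) P) : o2 P ≤ centralizer (D : Set G) :=
  h.sylQ.1.trans (centralizer_le (SetLike.coe_subset_coe.2 hD))

/-- **The Sylow subgroups of `C_G(D)` over `Q` lie in `L`**, `z ∈ D ≤ V`. -/
theorem syl_le {D T : Subgroup G} (hz : pt ε 0 ∈ D) (hT : Syl T (centralizer (D : Set G))) (hQ : o2 P ≤ T) :
    T ≤ normalizer (zl (S : Subgroup G) P : Set G) := h.two_le hT.2.1 (hT.1.trans (cent_le hz)) hQ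

theorem exists_T {D : Subgroup G} (hD : D ≤ zl (S : Subgroup G) P) :
    ∃ T, Syl T (centralizer (D : Set G)) ∧ o2 P ≤ T := exists_syl (ChoiceSit.isPGroup_o2 P) (h.Q_le_cent hD)

/-- `z ∈ V^g` implies `V^g = V^c` with `c ∈ C_G(z)`. -/
theorem exists_cz {g : G} (hz : pt ε 0 ∈ cj g (zl (S : Subgroup G) P)) :
    ∃ c ∈ Cn (pt ε 0), cj g (zl (S : Subgroup G) P) = cj c (zl (S : Subgroup G) P) := by
  rw [mem_cj] at hz
  obtain ⟨k, hk, hk1⟩ := h.ctl (pt ε 0) (h.ev.mem _) g⁻¹ (by rwa [inv_inv])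
  refine ⟨g * k, mem_Cn'.2 ?_, ?_⟩
  · calc g * k * pt ε 0 * (g * k)⁻¹ = g * (k * pt ε 0 * k⁻¹) * g⁻¹ := by group
      _ = g * (g⁻¹ * pt ε 0 * g⁻¹⁻¹) * g⁻¹ := by rw [hk1]
      _ = pt ε 0 := by group
  · rw [← cj_cj, cj_eq_of_mem_normalizer hk]

/-- **`z ∈ D ≤ V ∩ V^g` implies `V^g = V^c` with `c ∈ C_G(D)`.** -/
theorem exists_conj {D : Subgroup G} {g : G} (hz : pt ε 0 ∈ D) (hD : D ≤ zl (S : Subgroup G) P)
    (hD' : D ≤ cj g (zl (S : Subgroup G) P)) :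
    ∃ c ∈ centralizer (D : Set G), cj g (zl (S : Subgroup G) P) = cj c (zl (S : Subgroup G) P) := by
  obtain ⟨c, hc, hcV⟩ := h.exists_cz (hD' hz)
  rw [hcV] at hD'
  have hQ2 : cj c (o2 P) ≤ centralizer (D : Set G) := by
    have h1 := cj_mono c h.sylQ.1
    rw [cj_centralizer] at h1
    exact h1.trans (centralizer_le (SetLike.coe_subset_coe.2 hD'))
  obtain ⟨T₁, hT₁, hQT₁⟩ := h.exists_T hD
  obtain ⟨T₂, hT₂, hQT₂⟩ := exists_syl (isPGroup_cj c (ChoiceSit.isPGroup_o2 P)) hQ2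
  obtain ⟨d, hd, hdT⟩ := syl_conj hT₁ hT₂
  have h1 := h.syl_le hz hT₁ hQT₁
  have h2 : o2 P ≤ normalizer ((cj (c⁻¹ * d) (zl (S : Subgroup G) P) : Subgroup G) : Set G) := by
    have h3 : cj c (o2 P) ≤ cj d (normalizer (zl (S : Subgroup G) P : Set G)) :=
      hQT₂.trans (hdT ▸ cj_mono d h1)
    rw [← cj_normalizer, ← cj_cj]
    exact cj_le_iff.1 h3
  have h4 := h.lemN _ (mul_mem (inv_mem hc) (cent_le hz hd)) h2
  refine ⟨d, hd, ?_⟩
  rw [hcV]
  have h5 := cj_eq_of_mem_normalizer h4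
  calc cj c (zl (S : Subgroup G) P) = cj c (cj (c⁻¹ * d) (zl (S : Subgroup G) P)) := by rw [h5]
    _ = cj d (zl (S : Subgroup G) P) := by rw [cj_cj]; congr 1; group

/-- **(TI)** the elements of `C_G(D)` fixing `v ∈ V` modulo nothing: `V ∩ V^g ∋ v`, `v ∉ D`. -/
theorem mem_conj {D : Subgroup G} {g v : G} (hz : pt ε 0 ∈ D) (hD : D ≤ zl (S : Subgroup G) P)
    (hg : g ∈ centralizer (D : Set G)) (hv : v ∈ zl (S : Subgroup G) P)
    (hv' : g * v * g⁻¹ ∈ zl (S : Subgroup G) P) :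
    ∃ c ∈ centralizer ((D ⊔ zpowers (g * v * g⁻¹) : Subgroup G) : Set G),
      cj g (zl (S : Subgroup G) P) = cj c (zl (S : Subgroup G) P) := by
  refine h.exists_conj (mem_sup_left hz) (sup_le hD (zpowers_le.2 hv')) (sup_le ?_ ?_)
  · intro d hd
    rw [mem_cj]
    have h1 := mem_centralizer_iff.1 hg d hd
    have h2 : g⁻¹ * d * g = d := by
      calc g⁻¹ * d * g = g⁻¹ * (d * g) := by group
        _ = g⁻¹ * (g * d) := by rw [h1]
        _ = d := by group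
    rw [h2]; exact hD hd
  · exact zpowers_le.2 ⟨v, hv, rfl⟩

/-! ### `U_z` -/

theorem U_sq {y x : G} (hx : x ∈ U (zl (S : Subgroup G) P) (pt ε 0) y) : x * x = 1 := by
  rw [← pow_two]
  exact h.toHyp.base.U_sq _ x hx

theorem U_le : U (zl (S : Subgroup G) P) (pt ε 0) (pt ε 0) ≤ zc (Qn (pt ε 0)) := by
  refine iSup_le fun g => ?_
  rintro _ ⟨v, hv, rfl⟩
  have hgz : (g : G) ∈ Cn (pt ε 0) := mem_Cn'.2 g.2
  have h1 : v ∈ zc (Qn (pt ε 0)) := h.toHyp.V_le hv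
  have h2 := (normalizer_le_of_cj (F := zc) NO3S.Level.zc_cj (Qn (pt ε 0)))
    (ChoiceSit.le_normalizer_o2 (Cn (pt ε 0)) hgz)
  exact (mem_normalizer_iff.1 h2 v).1 h1

theorem U_comm {x y : G} (hx : x ∈ U (zl (S : Subgroup G) P) (pt ε 0) (pt ε 0))
    (hy : y ∈ U (zl (S : Subgroup G) P) (pt ε 0) (pt ε 0)) : x * y = y * x :=
  (ChoiceBase.mem_zc.1 (h.U_le hy)).2.2 x (ChoiceBase.mem_zc.1 (h.U_le hx)).1

theorem V_le_U : zl (S : Subgroup G) P ≤ U (zl (S : Subgroup G) P) (pt ε 0) (pt ε 0) :=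
  h.toHyp.base.V_le_U 0

theorem U_le_Q : U (zl (S : Subgroup G) P) (pt ε 0) (pt ε 0) ≤ o2 P := by
  intro x hx
  refine h.cS (h.toHyp.o2_le_S (ChoiceBase.mem_zc.1 (h.U_le hx)).1) fun v hv => ?_
  exact h.U_comm hx (h.V_le_U hv)

/-- **`C_{U_z}(Q) = V`** -/
theorem U_cent {x : G} (hx : x ∈ U (zl (S : Subgroup G) P) (pt ε 0) (pt ε 0))
    (hc : ∀ q ∈ o2 P, q * x = x * q) : x ∈ zl (S : Subgroup G) P :=
  h.oz x (h.U_le_Q hx) (h.U_sq hx) hc

end Fr

end Cfsg.Agent.Omega.NO3S.SNL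

end

section


/-!
# SN.Two / SymBigL: the frame `R1.Ln` (helper677) from `Fr`

* `Fr.kg` : `C_G(z)` is a K-group; `Fr.fusPt` : fusion of the points `z_i` in `V`; **`Fr.toLn`**.
-/

set_option autoImplicit false
set_option linter.unusedSectionVars false

namespace Cfsg.Agent.Omega.NO3S.SNL

open Subgroup Cfsg Cfsg.Agent.ZN Cfsg.Agent.ZN.ChoiceBase
open Cfsg.Agent.Omega.MinPar Cfsg.Agent.Omega.Frame Cfsg.Agent.Omega.FrameNOFF
open Cfsg.Agent.Omega.S5.Def Cfsg.Agent.Omega.S5.Syl Cfsg.Agent.Omega.S5.Pair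
open Cfsg.Agent.Omega.NO3S.SN (pt Cn Qn U mem_Cn mem_Cn' Base)

universe u

variable {G : Type u} [Group G] [Finite G] {S : Sylow 2 G} {P : Subgroup G} {m : ℕ}
  {ε : (Fin (2 ^ m + 1) → ZMod 2) → G}

namespace Fr

variable (h : Fr S P m ε)
include h

/-- `C_G(z)` is a K-group. -/
theorem kg : IsKGroup (Cn (pt ε 0)) := by
  refine h.ctx.kproper _ fun htop => ?_
  have := h.ctx.simple
  have hz : pt ε 0 ∈ center G := by
    rw [mem_center_iff]
    intro g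
    have hg : g ∈ Cn (pt ε 0) := by rw [htop]; exact mem_top g
    exact mem_Cn.1 hg
  rcases (inferInstance : (center G).Normal).eq_bot_or_eq_top with h1 | h1
  · exact h.toHyp.z_ne_one (mem_bot.1 (h1 ▸ hz))
  · apply h.ctx.nonComm
    refine ⟨⟨fun a b => ?_⟩⟩
    have hb : b ∈ center G := by rw [h1]; exact mem_top b
    exact mem_center_iff.1 hb a

/-- the conjugates of the points `z_i` in `V` are points -/
theorem fusPt (i : Fin (2 ^ m + 1)) (g : G) (hg : g * pt ε i * g⁻¹ ∈ zl (S : Subgroup G) P) :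
    ∃ j, g * pt ε i * g⁻¹ = pt ε j := by
  obtain ⟨k, hk, hk1⟩ := h.ctl (pt ε i) (h.ev.mem _) g hg
  obtain ⟨σ, hσ⟩ := h.evL.perm k hk
  exact ⟨σ i, by rw [← hk1]; exact hσ.single i⟩

/-- **The frame of THEOREM R1.** -/
theorem toLn : SN.R1.Ln (zl (S : Subgroup G) P) ε (U (zl (S : Subgroup G) P) (pt ε 0) (pt ε 0)) where
  n5 := by have := h.toHyp.nine_le; omega
  ev := h.evL
  VW := h.V_le_U
  Wn := Base.Cn_le_normalizer _ _
  Wc := fun _ ha _ hb => h.U_comm ha hb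
  Ws := fun _ ha => h.U_sq ha
  fus := h.fusPt
  syl := fun Γ hΓ => by
    have hD : SN.R1.VG ε Γ ≤ zl (S : Subgroup G) P := by
      refine (closure_le _).2 ?_
      rintro _ ⟨x, -, rfl⟩
      exact h.ev.mem x
    have hz : pt ε 0 ∈ SN.R1.VG ε Γ := by
      have h0 : ∀ i ∈ Γ, (Pi.single 0 1 : Fin (2 ^ m + 1) → ZMod 2) i = 0 := fun i hi =>
        Pi.single_eq_of_ne (fun e : i = 0 => hΓ (e ▸ hi)) _
      exact subset_closure ⟨Pi.single 0 1, fun i hi j hj => by rw [h0 i hi, h0 j hj], rfl⟩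
    obtain ⟨T, hT, hQT⟩ := h.exists_T hD
    exact ⟨T, hT.1, h.syl_le hz hT hQT, hT.2.1, ChoiceSit.syl_not_dvd hT⟩
  kg := h.kg

end Fr

end Cfsg.Agent.Omega.NO3S.SNL

end
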